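import Mathlib
import Cfsg.Agent.Lib.Coprime.Generation
import Cfsg.Agent.Lib.FrobCompl.Noncyclic
import Cfsg.Agent.Lib.Elem.PrimaryParts

/-!
Fixed points of elements of prime order on abelian subgroups they normalize: Frobenius pairs,
noncyclic groups, and a pair `a, c` with a commutator.
-/

set_option autoImplicit false
set_option linter.style.haveILetI false
set_option linter.unusedSectionVars false

open scoped commutatorElement

namespace CfsgLib.FourPrimes

universe u

variable {G : Type u} [Group G] [Finite G]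

/-- The fixed points of `x` on `N`. -/
def fx (N : Subgroup G) (x : G) : Subgroup G := N ⊓ Subgroup.centralizer ({x} : Set G)

theorem mem_fx {N : Subgroup G} {x n : G} : n ∈ fx N x ↔ n ∈ N ∧ Commute n x := by
  rw [fx, Subgroup.mem_inf, Subgroup.mem_centralizer_iff]
  exact ⟨fun h => ⟨h.1, (h.2 x rfl).symm⟩, fun h => ⟨h.1, fun y hy => by rw [hy]; exact h.2.symm⟩⟩

theorem fx_le (N : Subgroup G) (x : G) : fx N x ≤ N := inf_le_left

theorem fx_mono {N M : Subgroup G} (h : N ≤ M) (x : G) : fx N x ≤ fx M x := inf_le_inf_right _ h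

theorem exists_mem_fx {N : Subgroup G} {x : G} (h : fx N x ≠ ⊥) :
    ∃ n ∈ N, n ≠ 1 ∧ Commute n x := by
  obtain ⟨⟨n, hn⟩, h1⟩ := Subgroup.ne_bot_iff_exists_ne_one.mp h
  exact ⟨n, (mem_fx.mp hn).1, fun e => h1 (Subtype.ext e), (mem_fx.mp hn).2⟩

theorem fx_ne_bot {N : Subgroup G} {x n : G} (hn : n ∈ N) (h1 : n ≠ 1) (hc : Commute n x) :
    fx N x ≠ ⊥ := fun h => h1 (Subgroup.mem_bot.mp (h ▸ mem_fx.mpr ⟨hn, hc⟩))

theorem isMulCommutative_of_le {V U : Subgroup G} [IsMulCommutative V] (h : U ≤ V) :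
    IsMulCommutative U := by
  refine ⟨⟨fun x y => Subtype.ext ?_⟩⟩
  have := congrArg Subtype.val (mul_comm' (⟨x, h x.2⟩ : V) ⟨y, h y.2⟩)
  exact this

theorem commute_of_mem {V : Subgroup G} [IsMulCommutative V] {x y : G} (hx : x ∈ V) (hy : y ∈ V) :
    Commute x y := congrArg Subtype.val (mul_comm' (⟨x, hx⟩ : V) ⟨y, hy⟩)

theorem mem_normalizer_fx {N : Subgroup G} {x e : G} (he : e ∈ Subgroup.normalizer (N : Set G))
    (hc : Commute e x) : e ∈ Subgroup.normalizer (fx N x : Set G) := by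
  refine CfsgLib.PrimaryParts.mem_normalizer_of_conj_mem fun n hn => ?_
  obtain ⟨hN, hnx⟩ := mem_fx.mp hn
  exact mem_fx.mpr ⟨(Subgroup.mem_normalizer_iff.mp he n).mp hN,
    ((hc.mul_left hnx).mul_left hc.inv_left)⟩

theorem mem_normalizer_centralizer {U : Subgroup G} {g : G}
    (hg : g ∈ Subgroup.normalizer (U : Set G)) :
    g ∈ Subgroup.normalizer (Subgroup.centralizer (U : Set G) : Set G) :=
  Coprime.le_normalizer_centralizer (A := Subgroup.zpowers g) (Subgroup.zpowers_le.mpr hg)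
    (Subgroup.mem_zpowers g)

theorem mem_normalizer_centralizer_singleton {x g : G} (h : Commute g x) :
    g ∈ Subgroup.normalizer (Subgroup.centralizer ({x} : Set G) : Set G) := by
  refine Subgroup.le_normalizer ?_
  rw [Subgroup.mem_centralizer_singleton_iff]
  exact h.eq

/-- The subgroup `⟨x⟩` is centralized by what commutes with `x`. -/
theorem mem_centralizer_zpowers {x y : G} (h : Commute y x) :
    y ∈ Subgroup.centralizer (Subgroup.zpowers x : Set G) := by
  rintro z ⟨i, rfl⟩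
  exact ((h.zpow_right i).eq).symm

theorem commute_of_mem_centralizer {S : Subgroup G} {x y : G}
    (h : y ∈ Subgroup.centralizer (S : Set G)) (hx : x ∈ S) : Commute x y := h x hx

/-- A group `W` and an element `v` normalizing `U`, with `W` fixed point free on `U` and the powers
of `v` fixed point free on `W` modulo the centralizer of `U`: then `v` has a fixed point on `U`. -/
theorem exists_fixed {U W : Subgroup G} [IsMulCommutative U] {v : G} (hU : U ≠ ⊥)
    (hWU : W ≤ Subgroup.normalizer (U : Set G)) (hvU : v ∈ Subgroup.normalizer (U : Set G))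
    (hvW : v ∈ Subgroup.normalizer (W : Set G)) (hcop : (Nat.card U).Coprime (Nat.card W))
    (hfix : U ⊓ Subgroup.centralizer (W : Set G) = ⊥) (hvcop : (orderOf v).Coprime (Nat.card W))
    (hfpf : ∀ w ∈ W, ∀ i : ℕ, v ^ i ≠ 1 → Commute (v ^ i) w →
      w ∈ Subgroup.centralizer (U : Set G)) :
    fx U v ≠ ⊥ := by
  classical
  intro hbot
  haveI := Fintype.ofFinite G
  letI : CommGroup U := { (inferInstance : Group U) with mul_comm := mul_comm' }
  set N₀ := Subgroup.normalizer (U : Set G) with hN₀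
  let φ : G → U → U := fun e u =>
    if h : e * (u : G) * e⁻¹ ∈ U then ⟨e * (u : G) * e⁻¹, h⟩ else 1
  have hφ : ∀ e ∈ N₀, ∀ u : U, ((φ e u : U) : G) = e * (u : G) * e⁻¹ := fun e he u => by
    have h : e * (u : G) * e⁻¹ ∈ U := (Subgroup.mem_normalizer_iff.mp he u).mp u.2
    simp only [φ, dif_pos h]
  have hmul : ∀ e ∈ N₀, ∀ u u' : U, φ e (u * u') = φ e u * φ e u' := fun e he u u' => by
    apply Subtype.ext
    rw [Subgroup.coe_mul, hφ e he, hφ e he, hφ e he, Subgroup.coe_mul]
    group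
  have hcomp : ∀ e ∈ N₀, ∀ f ∈ N₀, ∀ u : U, φ e (φ f u) = φ (e * f) u := fun e he f hf u => by
    apply Subtype.ext
    rw [hφ e he, hφ f hf, hφ (e * f) (N₀.mul_mem he hf)]
    group
  have hone : ∀ u : U, φ 1 u = u := fun u => by
    apply Subtype.ext
    rw [hφ 1 (one_mem _)]; group
  have hcen : ∀ e ∈ N₀, ∀ f ∈ N₀, e⁻¹ * f ∈ Subgroup.centralizer (U : Set G) → ∀ u : U,
      φ e u = φ f u := fun e he f hf h u => by
    have h2 : φ (e⁻¹ * f) u = u := by
      apply Subtype.ext
      rw [hφ _ (N₀.mul_mem (N₀.inv_mem he) hf), ← h u u.2, mul_assoc, mul_inv_cancel, mul_one]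
    conv_lhs => rw [← h2]
    rw [hcomp e he _ (N₀.mul_mem (N₀.inv_mem he) hf), mul_inv_cancel_left]
  -- the sums over the powers of `v`
  have hS : ∀ x : U, ∏ i ∈ Finset.range (orderOf v), φ (v ^ i) x = 1 := by
    intro x
    set S := ∏ i ∈ Finset.range (orderOf v), φ (v ^ i) x with hSdef
    have hfix : φ v S = S := by
      rw [hSdef, show φ v (∏ i ∈ Finset.range (orderOf v), φ (v ^ i) x) =
        ∏ i ∈ Finset.range (orderOf v), φ v (φ (v ^ i) x) from
        map_prod (MonoidHom.mk' (φ v) (hmul v hvU)) _ _]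
      simp_rw [hcomp v hvU _ (N₀.pow_mem hvU _), ← pow_succ']
      have h1 := Finset.prod_range_succ (fun i => φ (v ^ i) x) (orderOf v)
      have h2 := Finset.prod_range_succ' (fun i => φ (v ^ i) x) (orderOf v)
      rw [pow_orderOf_eq_one] at h1
      rw [pow_zero] at h2
      rw [h2] at h1
      exact mul_right_cancel h1
    apply Subtype.ext
    by_contra hne
    refine fx_ne_bot S.2 hne ?_ hbot
    have h := congrArg Subtype.val hfix
    rw [hφ v hvU, mul_inv_eq_iff_eq_mul] at h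
    exact h.symm
  -- the quotient by the kernel
  set Z : Subgroup W := (Subgroup.centralizer (U : Set G)).subgroupOf W with hZ
  have hmk : ∀ w w' : W, (w : W ⧸ Z) = (w' : W ⧸ Z) ↔
      (w : G)⁻¹ * w' ∈ Subgroup.centralizer (U : Set G) := fun w w' => by
    rw [QuotientGroup.eq, Subgroup.mem_subgroupOf]; rfl
  haveI : Z.Normal := ⟨fun z hz g => by
    rw [Subgroup.mem_subgroupOf] at hz ⊢
    exact (Subgroup.mem_normalizer_iff.mp (mem_normalizer_centralizer (hWU g.2)) _).mp hz⟩
  have hrep : ∀ (w : W) (x : U), φ ((w : W ⧸ Z).out : G) x = φ (w : G) x := fun w x =>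
    hcen _ (hWU (SetLike.coe_mem _)) _ (hWU w.2)
      ((hmk _ _).mp (QuotientGroup.out_eq' (w : W ⧸ Z))) x
  have hT : ∀ x : U, ∏ q : W ⧸ Z, φ ((q.out : W) : G) x = 1 := by
    intro x
    set T := ∏ q : W ⧸ Z, φ ((q.out : W) : G) x with hTdef
    have hfixT : ∀ w : W, φ (w : G) T = T := by
      intro w
      rw [hTdef, show φ (w : G) (∏ q : W ⧸ Z, φ ((q.out : W) : G) x) =
        ∏ q : W ⧸ Z, φ (w : G) (φ ((q.out : W) : G) x) from
        map_prod (MonoidHom.mk' (φ (w : G)) (hmul _ (hWU w.2))) _ _]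
      simp_rw [hcomp (w : G) (hWU w.2) _ (hWU (SetLike.coe_mem _))]
      refine Fintype.prod_bijective (fun q => (w : W ⧸ Z) * q) (Group.mulLeft_bijective _) _ _
        fun q => ?_
      rw [← Subgroup.coe_mul, ← hrep (w * q.out) x, QuotientGroup.mk_mul, QuotientGroup.out_eq']
    have hmem : (T : G) ∈ U ⊓ Subgroup.centralizer (W : Set G) := by
      refine Subgroup.mem_inf.mpr ⟨T.2, fun w hw => ?_⟩
      have h := congrArg Subtype.val (hfixT ⟨w, hw⟩)
      rw [hφ w (hWU hw), mul_inv_eq_iff_eq_mul] at h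
      exact h
    rw [hfix, Subgroup.mem_bot] at hmem
    exact Subtype.ext hmem
  obtain ⟨⟨u, hu⟩, hu1⟩ := Subgroup.ne_bot_iff_exists_ne_one.mp hU
  apply hu1
  set u' : U := ⟨u, hu⟩ with hu'
  have h1 : ∏ q : W ⧸ Z, ∏ i ∈ Finset.range (orderOf v),
      φ (((q.out : W) : G) * v ^ i * ((q.out : W) : G)⁻¹) u' = 1 := by
    refine Finset.prod_eq_one fun q _ => ?_
    have hq := hWU (q.out : W).2
    have h : φ ((q.out : W) : G)
        (∏ i ∈ Finset.range (orderOf v), φ (v ^ i) (φ ((q.out : W) : G)⁻¹ u')) = φ _ 1 :=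
      congrArg _ (hS _)
    rw [show φ ((q.out : W) : G)
        (∏ i ∈ Finset.range (orderOf v), φ (v ^ i) (φ ((q.out : W) : G)⁻¹ u')) =
        ∏ i ∈ Finset.range (orderOf v), φ ((q.out : W) : G) (φ (v ^ i) (φ ((q.out : W) : G)⁻¹ u'))
        from map_prod (MonoidHom.mk' (φ ((q.out : W) : G)) (hmul _ hq)) _ _] at h
    rw [show φ ((q.out : W) : G) 1 = 1 from map_one (MonoidHom.mk' (φ _) (hmul _ hq))] at h
    rw [← h]
    refine Finset.prod_congr rfl fun i _ => ?_
    rw [hcomp _ (N₀.pow_mem hvU i) _ (N₀.inv_mem hq),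
      hcomp _ hq _ (N₀.mul_mem (N₀.pow_mem hvU i) (N₀.inv_mem hq)), ← mul_assoc]
  rw [Finset.prod_comm] at h1
  have hpos := orderOf_pos v
  obtain ⟨m, hm⟩ : ∃ m, orderOf v = m + 1 := ⟨orderOf v - 1, by omega⟩
  rw [hm, Finset.prod_range_succ'] at h1
  have h2 : ∀ i ∈ Finset.range m, ∏ q : W ⧸ Z,
      φ (((q.out : W) : G) * v ^ (i + 1) * ((q.out : W) : G)⁻¹) u' = 1 := by
    intro i hi
    have hi' : i + 1 < orderOf v := by rw [hm]; simpa using hi
    have hne : v ^ (i + 1) ≠ 1 := pow_ne_one_of_lt_orderOf (by omega) hi'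
    set e := v ^ (i + 1) with he
    have heU : e ∈ N₀ := N₀.pow_mem hvU _
    have heW : e ∈ Subgroup.normalizer (W : Set G) := Subgroup.pow_mem _ hvW _
    have hfW : ∀ w : W, (w : G) * (e * (w : G)⁻¹ * e⁻¹) ∈ W := fun w =>
      W.mul_mem w.2 ((Subgroup.mem_normalizer_iff.mp heW _).mp (W.inv_mem w.2))
    let f : W → W := fun w => ⟨(w : G) * (e * (w : G)⁻¹ * e⁻¹), hfW w⟩
    have hinj : Function.Injective fun q : W ⧸ Z => ((f q.out : W) : W ⧸ Z) := by
      intro q q' h
      rw [← QuotientGroup.out_eq' q, ← QuotientGroup.out_eq' q', hmk]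
      set a : G := ((q.out : W) : G)
      set b : G := ((q'.out : W) : G)
      have h' : (a * (e * a⁻¹ * e⁻¹))⁻¹ * (b * (e * b⁻¹ * e⁻¹)) ∈
          Subgroup.centralizer (U : Set G) := (hmk _ _).mp h
      -- `z = a⁻¹ b` commutes with `e` modulo the kernel
      set z : G := a⁻¹ * b with hz
      have hzW : z ∈ W := W.mul_mem (W.inv_mem (SetLike.coe_mem _)) (SetLike.coe_mem _)
      have haU : a ∈ N₀ := hWU (SetLike.coe_mem _)
      have h3 := (Subgroup.mem_normalizer_iff.mp (mem_normalizer_centralizer haU) (z * e * z⁻¹ * e⁻¹))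
      have h4 : (e * a⁻¹)⁻¹⁻¹ = e * a⁻¹ := inv_inv _
      have h5 : e⁻¹ * (z * e * z⁻¹) ∈ Subgroup.centralizer (U : Set G) := by
        have hn : (e * a⁻¹ * e⁻¹) ∈ N₀ := N₀.mul_mem (N₀.mul_mem heU (N₀.inv_mem haU)) (N₀.inv_mem heU)
        have h6 := (Subgroup.mem_normalizer_iff.mp (mem_normalizer_centralizer
          (N₀.mul_mem (N₀.inv_mem haU) (N₀.mul_mem haU (N₀.mul_mem (N₀.inv_mem heU) hn)))) _).mp h'
        have e7 : a⁻¹ * (a * (e⁻¹ * (e * a⁻¹ * e⁻¹))) * ((a * (e * a⁻¹ * e⁻¹))⁻¹ *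
            (b * (e * b⁻¹ * e⁻¹))) * (a⁻¹ * (a * (e⁻¹ * (e * a⁻¹ * e⁻¹))))⁻¹ =
            e⁻¹ * (z * e * z⁻¹) := by rw [hz]; group
        rw [e7] at h6
        exact h6
      have h8 : z⁻¹ * (e * z * e⁻¹) ∈ Subgroup.centralizer (U : Set G) := by
        have h6 := (Subgroup.mem_normalizer_iff.mp (mem_normalizer_centralizer
          (N₀.mul_mem (N₀.inv_mem (hWU hzW)) heU)) _).mp (Subgroup.inv_mem _ h5)
        have e7 : z⁻¹ * e * (e⁻¹ * (z * e * z⁻¹))⁻¹ * (z⁻¹ * e)⁻¹ = z⁻¹ * (e * z * e⁻¹) := by group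
        rw [e7] at h6
        exact h6
      -- lift to a fixed point
      have hsolv : Group.IsSolvable (Subgroup.zpowers e) :=
        Coprime.isSolvable_of_isMulCommutative _
      have hnorm : Subgroup.zpowers e ≤ Subgroup.normalizer (W : Set G) := Subgroup.zpowers_le.mpr heW
      have hZn : Subgroup.zpowers e ≤
          Subgroup.normalizer ((W ⊓ Subgroup.centralizer (U : Set G) : Subgroup G) : Set G) :=
        Coprime.le_normalizer_inf_of_le hnorm
          (Subgroup.zpowers_le.mpr (mem_normalizer_centralizer heU))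
      obtain ⟨c, hc, hcz⟩ := Coprime.exists_centralizer_mem_coset hnorm
        (hvcop.coprime_dvd_left (by rw [Nat.card_zpowers]; exact orderOf_pow_dvd _)) (Or.inl hsolv)
        inf_le_left hZn hzW (by
          rintro x ⟨j, rfl⟩
          let S : Subgroup G :=
            { carrier := {x | x ∈ Subgroup.normalizer (W : Set G) ∧
                x ∈ Subgroup.normalizer ((Subgroup.centralizer (U : Set G) : Subgroup G) : Set G) ∧
                z⁻¹ * (x * z * x⁻¹) ∈ W ⊓ Subgroup.centralizer (U : Set G)}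
              one_mem' := ⟨one_mem _, one_mem _, by simp⟩
              mul_mem' := fun {x y} hx hy => ⟨mul_mem hx.1 hy.1, mul_mem hx.2.1 hy.2.1, by
                have h9 : z⁻¹ * (x * y * z * (x * y)⁻¹) =
                    z⁻¹ * (x * z * x⁻¹) * (x * (z⁻¹ * (y * z * y⁻¹)) * x⁻¹) := by group
                rw [h9]
                exact mul_mem hx.2.2 (Subgroup.mem_inf.mpr
                  ⟨(Subgroup.mem_normalizer_iff.mp hx.1 _).mp hy.2.2.1,
                    (Subgroup.mem_normalizer_iff.mp hx.2.1 _).mp hy.2.2.2⟩)⟩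
              inv_mem' := fun {x} hx => ⟨inv_mem hx.1, inv_mem hx.2.1, by
                have h9 : z⁻¹ * (x⁻¹ * z * x⁻¹⁻¹) = x⁻¹ * (z⁻¹ * (x * z * x⁻¹))⁻¹ * x := by group
                rw [h9]
                have h10 := inv_mem hx.2.2
                have h11 := (Subgroup.mem_normalizer_iff.mp (inv_mem hx.1) _).mp h10.1
                have h12 := (Subgroup.mem_normalizer_iff.mp (inv_mem hx.2.1) _).mp h10.2
                rw [inv_inv] at h11 h12
                exact Subgroup.mem_inf.mpr ⟨h11, h12⟩⟩ }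
          have heS : e ∈ S := ⟨heW, mem_normalizer_centralizer heU, Subgroup.mem_inf.mpr
            ⟨W.mul_mem (W.inv_mem hzW) ((Subgroup.mem_normalizer_iff.mp heW _).mp hzW), h8⟩⟩
          exact (S.zpow_mem heS j).2.2)
      have hcU := hfpf c (Subgroup.mem_inf.mp hc).1 (i + 1) hne
        ((commute_of_mem_centralizer (Subgroup.mem_inf.mp hc).2 (Subgroup.mem_zpowers e)))
      have h13 := (Subgroup.centralizer (U : Set G)).mul_mem hcU
        (Subgroup.inv_mem _ (Subgroup.mem_inf.mp hcz).2)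
      rwa [mul_inv_rev, inv_inv, mul_inv_cancel_left] at h13
    have hbij : Function.Bijective fun q : W ⧸ Z => ((f q.out : W) : W ⧸ Z) :=
      (Finite.injective_iff_bijective).mp hinj
    rw [← hT (φ e u')]
    refine Fintype.prod_bijective _ hbij _ _ fun q => ?_
    rw [hrep, hcomp _ (hWU (f q.out).2) _ heU]
    congr 1
    show _ = ((q.out : W) : G) * (e * ((q.out : W) : G)⁻¹ * e⁻¹) * e
    group
  rw [Finset.prod_eq_one h2, one_mul] at h1
  have h3 : u' ^ Nat.card (W ⧸ Z) = 1 := by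
    rw [← h1, Nat.card_eq_fintype_card, ← Finset.card_univ, ← Finset.prod_const]
    refine Finset.prod_congr rfl fun q _ => ?_
    rw [pow_zero, mul_one, mul_inv_cancel, hone]
  exact orderOf_eq_one_iff.mp (Nat.eq_one_of_dvd_coprimes
    (hcop.coprime_dvd_right (Subgroup.card_quotient_dvd_card Z)) (orderOf_dvd_natCard u')
    (orderOf_dvd_of_pow_eq_one h3))

/-- The case of an element of prime order. -/
theorem exists_fixed_prime {U W : Subgroup G} [IsMulCommutative U] {v : G} {s : ℕ} (hs : s.Prime)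
    (hv : orderOf v = s) (hU : U ≠ ⊥)
    (hWU : W ≤ Subgroup.normalizer (U : Set G)) (hvU : v ∈ Subgroup.normalizer (U : Set G))
    (hvW : v ∈ Subgroup.normalizer (W : Set G)) (hcop : (Nat.card U).Coprime (Nat.card W))
    (hfix : U ⊓ Subgroup.centralizer (W : Set G) = ⊥) (hvcop : s.Coprime (Nat.card W))
    (hfpf : ∀ w ∈ W, Commute v w → w ∈ Subgroup.centralizer (U : Set G)) :
    fx U v ≠ ⊥ := by
  refine exists_fixed hU hWU hvU hvW hcop hfix (hv ▸ hvcop) fun w hw i hi hc => hfpf w hw ?_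
  have hdvd : ¬ s ∣ i := fun h => hi (orderOf_dvd_iff_pow_eq_one.mp (hv ▸ h))
  have hmem : v ∈ Subgroup.zpowers (v ^ i) := by
    rw [mem_zpowers_pow_iff, hv]
    exact (hs.coprime_iff_not_dvd.mpr hdvd).symm
  obtain ⟨k, hk⟩ := Subgroup.mem_zpowers_iff.mp hmem
  rw [← hk]
  exact hc.zpow_left k

/-- Two commuting independent elements of order `r` generate a noncyclic group. -/
theorem pair_group {r : ℕ} [hr : Fact r.Prime] {x y : G} (hx : orderOf x = r) (hy : orderOf y = r)
    (hc : Commute x y) (hne : x ∉ Subgroup.zpowers y) :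
    IsMulCommutative ↥(Subgroup.closure ({x, y} : Set G)) ∧
      ¬ IsCyclic ↥(Subgroup.closure ({x, y} : Set G)) ∧
      ∀ e ∈ Subgroup.closure ({x, y} : Set G), e ^ r = 1 := by
  set A := Subgroup.closure ({x, y} : Set G) with hA
  have hAc : IsMulCommutative A := by
    refine Subgroup.isMulCommutative_closure fun a ha b hb => ?_
    rcases ha with rfl | rfl <;> rcases hb with rfl | rfl
    · rfl
    · exact hc.eq
    · exact hc.eq.symm
    · rfl
  haveI := hAc
  have hexp : ∀ e ∈ A, e ^ r = 1 := by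
    intro e he
    induction he using Subgroup.closure_induction with
    | mem z hz =>
      rcases hz with rfl | rfl
      · rw [← hx]; exact pow_orderOf_eq_one _
      · rw [← hy]; exact pow_orderOf_eq_one _
    | one => exact one_pow _
    | mul a b ha hb iha ihb => rw [(commute_of_mem ha hb).mul_pow, iha, ihb, one_mul]
    | inv a _ iha => rw [inv_pow, iha, inv_one]
  refine ⟨hAc, Coprime.not_isCyclic_of_exponent hexp hr.out.pos ?_, hexp⟩
  have hxA : x ∈ A := Subgroup.subset_closure (Set.mem_insert x {y})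
  have hyA : y ∈ A := Subgroup.subset_closure (Set.mem_insert_of_mem _ rfl)
  by_contra hle
  push Not at hle
  apply hne
  rw [Subgroup.eq_of_le_of_card_ge (Subgroup.zpowers_le.mpr hyA)
    (by rw [Nat.card_zpowers, hy]; exact hle)]
  exact hxA

/-- A noncyclic elementary group fixes a point: the first form. -/
theorem exists_fixed_of_noncyclic {A U : Subgroup G} [IsMulCommutative U] [IsMulCommutative A]
    (hU : U ≠ ⊥) (hAU : A ≤ Subgroup.normalizer (U : Set G)) (hA : ¬ IsCyclic A) :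
    ∃ e ∈ A, e ≠ 1 ∧ fx U e ≠ ⊥ := by
  by_contra h
  push Not at h
  exact hA (FrobCompl.isCyclic_of_comm hU hAU fun e he he1 => h e he he1)

theorem orderOf_eq_of_exponent {A : Subgroup G} {r : ℕ} [Fact r.Prime]
    (hexp : ∀ e ∈ A, e ^ r = 1) {e : G} (he : e ∈ A) (h1 : e ≠ 1) : orderOf e = r :=
  orderOf_eq_prime (hexp e he) h1

/-- Two commuting independent elements of order `r`: one of their products fixes a point. -/
theorem exists_fixed_of_pair {r : ℕ} [Fact r.Prime] {x y : G} (hx : orderOf x = r)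
    (hy : orderOf y = r) (hc : Commute x y) (hne : x ∉ Subgroup.zpowers y) {U : Subgroup G}
    [IsMulCommutative U] (hU : U ≠ ⊥) (hxU : x ∈ Subgroup.normalizer (U : Set G))
    (hyU : y ∈ Subgroup.normalizer (U : Set G)) :
    ∃ e ∈ Subgroup.closure ({x, y} : Set G), orderOf e = r ∧ fx U e ≠ ⊥ := by
  obtain ⟨hAc, hnc, hexp⟩ := pair_group hx hy hc hne
  obtain ⟨e, he, he1, hf⟩ := exists_fixed_of_noncyclic hU ((Subgroup.closure_le _).mpr
    (by rintro z (rfl | rfl) <;> assumption)) hnc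
  exact ⟨e, he, orderOf_eq_of_exponent hexp he he1, hf⟩

/-- `a` is fixed point free, `c` commutes with it, and `e` carries `c` to `c a^k`: then `c` fixes a
point. -/
theorem exists_fixed_of_commutator {r : ℕ} [hr : Fact r.Prime] {a c e : G} (ha : orderOf a = r)
    (hc : orderOf c = r) (hac : Commute a c) (hne : c ∉ Subgroup.zpowers a)
    (hea : Commute e a) (hec : ⁅e, c⁆ ∈ Subgroup.zpowers a) (hec1 : ⁅e, c⁆ ≠ 1)
    {U : Subgroup G} [IsMulCommutative U] (hU : U ≠ ⊥) (haU : a ∈ Subgroup.normalizer (U : Set G))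
    (hcU : c ∈ Subgroup.normalizer (U : Set G)) (heU : e ∈ Subgroup.normalizer (U : Set G))
    (hfpf : fx U a = ⊥) : fx U c ≠ ⊥ := by
  obtain ⟨g, hg, hgo, hgf⟩ := exists_fixed_of_pair hc ha hac.symm hne hU hcU haU
  set d := ⁅e, c⁆ with hd
  -- all elements of the pair are products
  have hsplit : ∃ i k : ℤ, g = a ^ i * c ^ k := by
    clear hgo hgf
    induction hg using Subgroup.closure_induction with
    | mem z hz =>
      rcases hz with rfl | rfl
      · exact ⟨0, 1, by simp⟩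
      · exact ⟨1, 0, by simp⟩
    | one => exact ⟨0, 0, by simp⟩
    | mul x y _ _ ihx ihy =>
      obtain ⟨i, k, rfl⟩ := ihx
      obtain ⟨i', k', rfl⟩ := ihy
      refine ⟨i + i', k + k', ?_⟩
      rw [zpow_add, zpow_add, mul_assoc, ← mul_assoc (c ^ k), ((hac.zpow_zpow i' k).symm).eq]
      group
    | inv x _ ihx =>
      obtain ⟨i, k, rfl⟩ := ihx
      refine ⟨-i, -k, ?_⟩
      rw [zpow_neg, zpow_neg, ← mul_inv_rev, ((hac.zpow_zpow i k)).eq]
  obtain ⟨i, k, rfl⟩ := hsplit
  obtain ⟨n, hn, hn1, hnc⟩ := exists_mem_fx hgf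
  -- `k` is prime to `r`
  have hk : ¬ (r : ℤ) ∣ k := fun hdvd => by
    have hck : c ^ k = 1 := orderOf_dvd_iff_zpow_eq_one.mp (hc ▸ hdvd)
    rw [hck, mul_one] at hnc hgo
    have hi : ¬ (r : ℤ) ∣ i := fun h => by
      rw [show a ^ i = 1 from orderOf_dvd_iff_zpow_eq_one.mp (ha ▸ h), orderOf_one] at hgo
      exact hr.out.ne_one hgo.symm
    obtain ⟨x, y, hxy⟩ := (Int.isCoprime_iff_gcd_eq_one.mpr (by
      rw [Int.gcd_comm]
      exact Int.isCoprime_iff_gcd_eq_one.mp
        ((Nat.prime_iff_prime_int.mp hr.out).coprime_iff_not_dvd.mpr hi)) : IsCoprime i (r : ℤ))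
    refine fx_ne_bot hn hn1 ?_ hfpf
    have : a = (a ^ i) ^ x := by
      rw [← zpow_mul]
      conv_lhs => rw [← zpow_one a, ← hxy]
      rw [zpow_add, mul_comm y, zpow_mul a (r : ℤ), zpow_natCast, ← ha, pow_orderOf_eq_one,
        one_zpow, mul_one, mul_comm x]
    rw [this]
    exact hnc.zpow_right x
  obtain ⟨x, y, hxy⟩ := ((Nat.prime_iff_prime_int.mp hr.out).coprime_iff_not_dvd.mpr hk).symm
  -- the power `a^(i x) c`
  have hnc' : Commute n (a ^ (i * x) * c) := by
    have h := hnc.zpow_right x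
    rw [(hac.zpow_zpow i k).mul_zpow, ← zpow_mul, ← zpow_mul] at h
    have hckx : c ^ (k * x) = c := by
      conv_rhs => rw [← zpow_one c, ← hxy]
      rw [zpow_add, mul_comm y, zpow_mul c (r : ℤ), zpow_natCast, ← hc, pow_orderOf_eq_one,
        one_zpow, mul_one, mul_comm x]
    rwa [hckx] at h
  -- a power of `e` carries `c` there
  have hda : Subgroup.zpowers a = Subgroup.zpowers d := by
    refine (Subgroup.eq_of_le_of_card_ge (Subgroup.zpowers_le.mpr hec) ?_).symm
    rw [Nat.card_zpowers, Nat.card_zpowers, ha]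
    obtain ⟨j, hj⟩ := Subgroup.mem_zpowers_iff.mp hec
    have : orderOf d = r := orderOf_eq_prime (by
      rw [← hj, ← zpow_natCast, ← zpow_mul, mul_comm, zpow_mul, zpow_natCast, ← ha,
        pow_orderOf_eq_one, one_zpow]) hec1
    omega
  obtain ⟨m, hm⟩ : a ^ (i * x) ∈ Submonoid.powers d := by
    rw [mem_powers_iff_mem_zpowers, ← hda]
    exact Subgroup.zpow_mem _ (Subgroup.mem_zpowers a) _
  have hed : Commute e d := by
    obtain ⟨j, hj⟩ := Subgroup.mem_zpowers_iff.mp hec
    rw [← hj]; exact hea.zpow_right j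
  have hconj : ∀ m : ℕ, e ^ m * c * (e ^ m)⁻¹ = d ^ m * c := by
    intro m
    induction m with
    | zero => simp
    | succ m ih =>
      calc e ^ (m + 1) * c * (e ^ (m + 1))⁻¹ = e * (e ^ m * c * (e ^ m)⁻¹) * e⁻¹ := by
            rw [pow_succ']; group
        _ = (e * d ^ m) * c * e⁻¹ := by rw [ih]; group
        _ = d ^ m * (e * c * e⁻¹) := by rw [(hed.pow_right m).eq]; group
        _ = d ^ m * (d * c) := by rw [hd, commutatorElement_def]; group
        _ = d ^ (m + 1) * c := by rw [pow_succ]; group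
  have hm' : d ^ m = a ^ (i * x) := hm
  rw [← hm', ← hconj m] at hnc'
  refine fx_ne_bot (n := (e ^ m)⁻¹ * n * e ^ m) ?_ ?_ ?_
  · have := (Subgroup.mem_normalizer_iff.mp (Subgroup.inv_mem _ (Subgroup.pow_mem _ heU m)) n).mp hn
    rwa [inv_inv] at this
  · intro h
    apply hn1
    calc n = e ^ m * ((e ^ m)⁻¹ * n * e ^ m) * (e ^ m)⁻¹ := by group
      _ = 1 := by rw [h]; group
  · show (e ^ m)⁻¹ * n * e ^ m * c = c * ((e ^ m)⁻¹ * n * e ^ m)
    calc (e ^ m)⁻¹ * n * e ^ m * c = (e ^ m)⁻¹ * (n * (e ^ m * c * (e ^ m)⁻¹)) * e ^ m := by group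
      _ = (e ^ m)⁻¹ * ((e ^ m * c * (e ^ m)⁻¹) * n) * e ^ m := by rw [hnc'.eq]
      _ = c * ((e ^ m)⁻¹ * n * e ^ m) := by group

end CfsgLib.FourPrimes
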