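import Mathlib
import Cfsg.Agent.Lib.Spectrum.ThreePrimes
import Cfsg.Agent.Lib.Hall.Basic
import Cfsg.Agent.Lib.FourPrimes.Action

/-!
Solvable groups with four primes, any two joined and no three jointly joined: the basic facts on
the prime order elements and on minimal normalized subgroups.
-/

set_option autoImplicit false
set_option linter.style.haveILetI false
set_option linter.unusedSectionVars false

open scoped commutatorElement

namespace CfsgLib.FourPrimes

universe u

variable {G : Type u} [Group G] [Finite G]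

/-- Four primes, any two of which are orders of commuting elements, no three of which are the
orders of three commuting elements. -/
structure Quad (G : Type u) [Group G] (σ : Finset ℕ) : Prop where
  four : σ.card = 4
  prime : ∀ p ∈ σ, p.Prime
  pair : ∀ p ∈ σ, ∀ q ∈ σ, p ≠ q → ∃ x y : G, orderOf x = p ∧ orderOf y = q ∧ Commute x y
  triple : ∀ p ∈ σ, ∀ q ∈ σ, ∀ r ∈ σ, p ≠ q → q ≠ r → p ≠ r → ∀ x y z : G,
    orderOf x = p → orderOf y = q → orderOf z = r → Commute x y → Commute x z → Commute y z → False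

/-- An `r`-subgroup of index prime to `r`. -/
def IsFull (r : ℕ) (P : Subgroup G) : Prop := IsPGroup r P ∧ ¬ r ∣ P.index

theorem isPGroup_zpowers {r : ℕ} [Fact r.Prime] {x : G} (hx : orderOf x = r) :
    IsPGroup r (Subgroup.zpowers x) :=
  IsPGroup.of_card (n := 1) (by rw [Nat.card_zpowers, hx, pow_one])

/-- Elements of `r`-power order are conjugate into a full `r`-subgroup. -/
theorem IsFull.exists_conj {r : ℕ} [hr : Fact r.Prime] {P : Subgroup G} (hP : IsFull r P) {Y : Subgroup G}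
    (hY : IsPGroup r Y) : ∃ g : G, ∀ y ∈ Y, g * y * g⁻¹ ∈ P := by
  obtain ⟨Q, hQ⟩ := hY.exists_le_sylow
  obtain ⟨g, hg⟩ := MulAction.exists_smul_eq G Q (hP.1.toSylow hP.2)
  refine ⟨g, fun y hy => ?_⟩
  have h1 : g * y * g⁻¹ ∈ ((g • Q : Sylow r G) : Subgroup G) := by
    rw [Sylow.coe_subgroup_smul]
    exact ⟨y, hQ hy, rfl⟩
  rw [hg] at h1
  exact h1

/-- A subgroup of index prime to `r` contains a full `r`-subgroup over any of its `r`-subgroups. -/
theorem exists_full {r : ℕ} [hr : Fact r.Prime] {K : Subgroup G} (hK : ¬ r ∣ K.index) {Y : Subgroup G}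
    (hYK : Y ≤ K) (hY : IsPGroup r Y) : ∃ P : Subgroup G, Y ≤ P ∧ P ≤ K ∧ IsFull r P := by
  obtain ⟨Q, hQ⟩ := (hY.comap_subtype (K := K)).exists_le_sylow
  refine ⟨(Q : Subgroup K).map K.subtype, fun y hy => ⟨⟨y, hYK hy⟩, hQ hy, rfl⟩,
    Subgroup.map_subtype_le _, Q.2.map _, fun h => ?_⟩
  rw [Subgroup.index_map_subtype] at h
  rcases hr.out.dvd_mul.mp h with h | h
  · exact Q.not_dvd_index h
  · exact hK h

/-- An element of `r`-power order normalizing a full `r`-subgroup lies in it. -/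
theorem IsFull.mem_of_normalizer {r : ℕ} [hr : Fact r.Prime] {P : Subgroup G} (hP : IsFull r P) {x : G}
    (hx : x ∈ Subgroup.normalizer (P : Set G)) {k : ℕ} (hk : orderOf x = r ^ k) : x ∈ P := by
  have h : IsPGroup r ↥(P ⊔ Subgroup.zpowers x) :=
    hP.1.to_sup_of_normal_left' (IsPGroup.of_card (n := k) (by rw [Nat.card_zpowers, hk]))
      (Subgroup.zpowers_le.mpr hx)
  have h2 : P ⊔ Subgroup.zpowers x = P :=
    (Sylow.is_maximal' (hP.1.toSylow hP.2) h le_sup_left)
  exact h2 ▸ Subgroup.mem_sup_right (Subgroup.mem_zpowers x)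

theorem exists_commute_conj {g x y : G} (h : Commute x y) :
    Commute (g * x * g⁻¹) (g * y * g⁻¹) := by
  have := h.map (MulAut.conj g).toMonoidHom
  simpa using this

theorem orderOf_conj (g x : G) : orderOf (g * x * g⁻¹) = orderOf x := by
  have := orderOf_injective (MulAut.conj g).toMonoidHom (MulAut.conj g).injective x
  simpa using this

variable {σ : Finset ℕ}

theorem Quad.other (hQ : Quad G σ) {p q r : ℕ} (hp : p ∈ σ) (hq : q ∈ σ) (hr : r ∈ σ) :
    ∃ s ∈ σ, s ≠ p ∧ s ≠ q ∧ s ≠ r := by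
  classical
  have h : (((σ.erase p).erase q).erase r).Nonempty := by
    rw [← Finset.card_pos]
    have h4 := hQ.four
    have := Finset.card_erase_add_one hp
    rcases Finset.decidableMem q (σ.erase p) with hq' | hq'
    · rw [Finset.erase_eq_of_notMem hq']
      rcases Finset.decidableMem r (σ.erase p) with hr' | hr'
      · rw [Finset.erase_eq_of_notMem hr']; omega
      · have := Finset.card_erase_add_one hr'; omega
    · have h2 := Finset.card_erase_add_one hq'
      rcases Finset.decidableMem r ((σ.erase p).erase q) with hr' | hr'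
      · rw [Finset.erase_eq_of_notMem hr']; omega
      · have := Finset.card_erase_add_one hr'; omega
  obtain ⟨s, hs⟩ := h
  simp only [Finset.mem_erase] at hs
  exact ⟨s, hs.2.2.2, hs.2.2.1, hs.2.1, hs.1⟩

/-- The elements of order `r` do not form a single class of subgroups. -/
theorem Quad.not_single [Group.IsSolvable G] (hQ : Quad G σ) {r : ℕ} (hr : r ∈ σ) {t : G} (ht : orderOf t = r)
    (h : ∀ x : G, orderOf x = r → ∃ g : G, g * x * g⁻¹ ∈ Subgroup.zpowers t) : False := by
  classical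
  haveI : Fact r.Prime := ⟨hQ.prime r hr⟩
  set C := Subgroup.centralizer ({t} : Set G) with hC
  have hcard : 3 ≤ (σ.erase r).card := by
    have := Finset.card_erase_add_one hr
    have := hQ.four
    omega
  obtain ⟨a, ha, b, hb, hab, z, hz⟩ := Spectrum.exists_adjacent_pair (G := C) (σ.erase r) hcard
    (fun p hp => hQ.prime p (Finset.mem_of_mem_erase hp)) fun a ha => by
      obtain ⟨x, y, hx, hy, hxy⟩ := hQ.pair r hr a (Finset.mem_of_mem_erase ha)
        (Finset.ne_of_mem_erase ha).symm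
      obtain ⟨g, hg⟩ := h x hx
      have hgen : Subgroup.zpowers (g * x * g⁻¹) = Subgroup.zpowers t :=
        Subgroup.eq_of_le_of_card_ge (Subgroup.zpowers_le.mpr hg)
          (by rw [Nat.card_zpowers, Nat.card_zpowers, orderOf_conj, hx, ht])
      have hmem : g * y * g⁻¹ ∈ C := by
        have h1 := mem_centralizer_zpowers (exists_commute_conj (g := g) hxy).symm
        rw [hgen] at h1
        rw [hC, Subgroup.mem_centralizer_singleton_iff]
        exact (h1 t (Subgroup.mem_zpowers t)).symm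
      rw [← hy, ← orderOf_conj g y]
      exact Subgroup.orderOf_dvd_natCard C hmem
  simp only [Finset.mem_erase] at ha hb
  have hap := hQ.prime a ha.2
  have hbp := hQ.prime b hb.2
  have hza : orderOf (z ^ b) = a := by
    rw [orderOf_pow_of_dvd hbp.ne_zero (hz ▸ dvd_mul_left b a), hz, Nat.mul_div_cancel _ hbp.pos]
  have hzb : orderOf (z ^ a) = b := by
    rw [orderOf_pow_of_dvd hap.ne_zero (hz ▸ dvd_mul_right a b), hz,
      Nat.mul_div_cancel_left _ hap.pos]
  have hzc : Commute t (z : G) := (Subgroup.mem_centralizer_singleton_iff.mp z.2).symm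
  exact hQ.triple r hr a ha.2 b hb.2 (Ne.symm ha.1) hab (Ne.symm hb.1) t (z ^ b : C) (z ^ a : C) ht
    (by rw [Subgroup.orderOf_coe, hza]) (by rw [Subgroup.orderOf_coe, hzb])
    (by simpa using hzc.pow_right b) (by simpa using hzc.pow_right a)
    (by simpa using (Commute.refl (z : G)).pow_pow b a)

/-- A full subgroup has, next to a central element of order `r`, another element of order `r`. -/
theorem Quad.exists_pair_of_central [Group.IsSolvable G] (hQ : Quad G σ) {r : ℕ} (hr : r ∈ σ) {P : Subgroup G} (hP : IsFull r P)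
    {t : G} (ht : orderOf t = r) : ∃ b ∈ P, orderOf b = r ∧ b ∉ Subgroup.zpowers t := by
  haveI : Fact r.Prime := ⟨hQ.prime r hr⟩
  by_contra h
  push Not at h
  refine hQ.not_single hr ht fun x hx => ?_
  obtain ⟨g, hg⟩ := hP.exists_conj (isPGroup_zpowers hx)
  exact ⟨g, h _ (hg x (Subgroup.mem_zpowers x)) (by rw [orderOf_conj, hx])⟩

theorem exists_central {r : ℕ} [hr : Fact r.Prime] {P : Subgroup G} (hP : IsPGroup r P) {x : G}
    (hx : x ∈ P) (hx1 : x ≠ 1) : ∃ t ∈ P, orderOf t = r ∧ ∀ y ∈ P, Commute t y := by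
  haveI : Nontrivial P := ⟨⟨⟨x, hx⟩, 1, fun e => hx1 (congrArg Subtype.val e)⟩⟩
  haveI := hP.center_nontrivial
  obtain ⟨k, hk⟩ := IsPGroup.iff_card.mp (hP.to_subgroup (Subgroup.center P))
  have hk0 : k ≠ 0 := by
    rintro rfl
    rw [pow_zero] at hk
    exact (Finite.one_lt_card (α := Subgroup.center P)).ne' hk
  obtain ⟨z, hz⟩ := exists_prime_orderOf_dvd_card' (G := Subgroup.center P) r (hk ▸ dvd_pow_self r hk0)
  exact ⟨((z : P) : G), (z : P).2, by rw [Subgroup.orderOf_coe, Subgroup.orderOf_coe, hz],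
    fun y hy => (congrArg Subtype.val (Subgroup.mem_center_iff.mp z.2 ⟨y, hy⟩)).symm⟩

theorem Quad.exists_indep [Group.IsSolvable G] (hQ : Quad G σ) {r : ℕ} (hr : r ∈ σ) {P : Subgroup G} (hP : IsFull r P) :
    ∃ b ∈ P, ∃ t ∈ P, orderOf b = r ∧ orderOf t = r ∧ Commute b t ∧ b ∉ Subgroup.zpowers t := by
  haveI : Fact r.Prime := ⟨hQ.prime r hr⟩
  obtain ⟨s, hs, hsr, -, -⟩ := hQ.other hr hr hr
  obtain ⟨x, -, hx, -, -⟩ := hQ.pair r hr s hs hsr.symm
  obtain ⟨g, hg⟩ := hP.exists_conj (isPGroup_zpowers hx)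
  obtain ⟨t, htP, hto, htc⟩ := exists_central hP.1 (hg x (Subgroup.mem_zpowers x)) fun e => by
    have h := orderOf_conj g x
    rw [e, orderOf_one, hx] at h
    exact (hQ.prime r hr).ne_one h.symm
  obtain ⟨b, hb, hbo, hbt⟩ := hQ.exists_pair_of_central hr hP hto
  exact ⟨b, hb, t, htP, hbo, hto, (htc b hb).symm, hbt⟩

/-- An element of order `r` in a line normalized by an element of `r`-power order commutes with it. -/
theorem commute_of_line {r : ℕ} [hr : Fact r.Prime] {t x : G} (ht : orderOf t = r)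
    (hx : x * t * x⁻¹ ∈ Subgroup.zpowers t) {k : ℕ} (hk : orderOf x = r ^ k) : Commute x t := by
  obtain ⟨i, hi⟩ := Subgroup.mem_zpowers_iff.mp hx
  have hiter : ∀ n : ℕ, x ^ n * t * (x ^ n)⁻¹ = t ^ (i ^ n) := by
    intro n
    induction n with
    | zero => simp
    | succ n ih =>
      calc x ^ (n + 1) * t * (x ^ (n + 1))⁻¹ = x * (x ^ n * t * (x ^ n)⁻¹) * x⁻¹ := by
            rw [pow_succ']; group
        _ = (x * t * x⁻¹) ^ (i ^ n) := by rw [ih, conj_zpow]
        _ = t ^ (i ^ (n + 1)) := by rw [← hi, ← zpow_mul, pow_succ']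
  have h1 := hiter (r ^ k)
  rw [← hk, pow_orderOf_eq_one] at h1
  simp only [one_mul, inv_one, mul_one] at h1
  have h2 : ((i ^ orderOf x : ℤ) : ZMod r) = 1 := by
    have h3 : t ^ (i ^ orderOf x - 1) = 1 := by rw [zpow_sub, zpow_one, ← h1, mul_inv_cancel]
    have h4 := orderOf_dvd_iff_zpow_eq_one.mpr h3
    rw [ht, ← ZMod.intCast_zmod_eq_zero_iff_dvd, Int.cast_sub, Int.cast_one, sub_eq_zero] at h4
    exact h4
  have h5 : ∀ m : ℕ, ((i : ZMod r)) ^ r ^ m = i := by
    intro m
    induction m with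
    | zero => simp
    | succ m ih => rw [pow_succ, pow_mul, ih, ZMod.pow_card]
  rw [hk, Int.cast_pow, h5] at h2
  have h6 : t ^ i = t := by
    have h7 : (r : ℤ) ∣ i - 1 := by
      rw [← ZMod.intCast_zmod_eq_zero_iff_dvd, Int.cast_sub, h2, Int.cast_one, sub_self]
    have h8 := orderOf_dvd_iff_zpow_eq_one.mp (ht.symm ▸ h7)
    rwa [zpow_sub, zpow_one, mul_inv_eq_one] at h8
  rw [h6, eq_mul_inv_iff_mul_eq] at hi
  exact hi.symm

/-- A nontrivial subgroup normalized by `K` contains an elementary abelian minimal one. -/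
theorem exists_minimal [Group.IsSolvable G] {K M : Subgroup G} (hKM : K ≤ Subgroup.normalizer (M : Set G))
    (hM : M ≠ ⊥) : ∃ (T : Subgroup G) (x : ℕ), T ≤ M ∧ T ≠ ⊥ ∧ K ≤ Subgroup.normalizer (T : Set G) ∧
      (∀ T' : Subgroup G, T' ≤ T → T' ≠ ⊥ → K ≤ Subgroup.normalizer (T' : Set G) → T' = T) ∧
      x.Prime ∧ x ∣ Nat.card T ∧ IsMulCommutative T ∧ ∀ e ∈ T, e ^ x = 1 := by
  obtain ⟨T, ⟨hTM, hT, hKT⟩, hmin⟩ := (Set.toFinite
    {T : Subgroup G | T ≤ M ∧ T ≠ ⊥ ∧ K ≤ Subgroup.normalizer (T : Set G)}).exists_minimal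
    ⟨M, le_rfl, hM, hKM⟩
  have hmin' : ∀ T' : Subgroup G, T' ≤ T → T' ≠ ⊥ → K ≤ Subgroup.normalizer (T' : Set G) → T' = T :=
    fun T' h h1 h2 => le_antisymm h (hmin ⟨h.trans hTM, h1, h2⟩ h)
  haveI : Nontrivial T := (Subgroup.nontrivial_iff_ne_bot T).mpr hT
  have hTc : IsMulCommutative T := by
    have hder : ⁅T, T⁆ ≤ T := by
      rw [Subgroup.commutator_le]
      intro a ha b hb
      rw [commutatorElement_def]
      exact mul_mem (mul_mem (mul_mem ha hb) (inv_mem ha)) (inv_mem hb)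
    by_cases h : ⁅T, T⁆ = ⊥
    · exact ⟨⟨fun a b => Subtype.ext
        (Subgroup.commutator_eq_bot_iff_le_centralizer.mp h b.2 a a.2)⟩⟩
    · exfalso
      have hTs : Group.IsSolvable T := solvable_of_solvable_injective T.subtype_injective
      have h2 := hmin' _ hder h (Coprime.le_normalizer_commutator hKT hKT)
      have h3 : commutator T = ⊤ := by
        apply Subgroup.map_injective T.subtype_injective
        rw [← MonoidHom.range_eq_map, T.range_subtype, commutator_def, Subgroup.map_commutator,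
          ← MonoidHom.range_eq_map, T.range_subtype, h2]
      exact (Group.IsSolvable.commutator_lt_top_of_nontrivial T).ne h3
  haveI := hTc
  obtain ⟨x, hx, hxd⟩ := Nat.exists_prime_and_dvd (Finite.one_lt_card (α := T)).ne'
  haveI := Fact.mk hx
  refine ⟨T, x, hTM, hT, hKT, hmin', hx, hxd, hTc, ?_⟩
  let T' : Subgroup G :=
    { carrier := {e | e ∈ T ∧ e ^ x = 1}
      one_mem' := ⟨one_mem T, one_pow x⟩
      mul_mem' := fun {a b} ha hb => ⟨mul_mem ha.1 hb.1, by
        rw [(commute_of_mem ha.1 hb.1).mul_pow, ha.2, hb.2, one_mul]⟩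
      inv_mem' := fun {a} ha => ⟨inv_mem ha.1, by rw [inv_pow, ha.2, inv_one]⟩ }
  have h : T' = T := by
    refine hmin' T' (fun e he => he.1) ?_ fun g hg => ?_
    · obtain ⟨e, he⟩ := exists_prime_orderOf_dvd_card' (G := T) x hxd
      intro h
      have h1 : (e : G) ∈ T' := ⟨e.2, by
        rw [← he, ← Subgroup.orderOf_coe]; exact pow_orderOf_eq_one _⟩
      rw [h, Subgroup.mem_bot] at h1
      rw [← Subgroup.orderOf_coe, h1, orderOf_one] at he
      exact hx.ne_one he.symm
    · refine PrimaryParts.mem_normalizer_of_conj_mem fun e he =>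
        ⟨(Subgroup.mem_normalizer_iff.mp (hKT hg) e).mp he.1, ?_⟩
      rw [conj_pow, he.2, mul_one, mul_inv_cancel]
  intro e he
  exact (h.ge he).2

/-- An elementary group is noncyclic or generated by one element of prime order. -/
theorem eq_zpowers_of_cyclic {T : Subgroup G} [IsCyclic T] {x : ℕ} [hx : Fact x.Prime] (hT : T ≠ ⊥)
    (hexp : ∀ e ∈ T, e ^ x = 1) : ∃ t, orderOf t = x ∧ T = Subgroup.zpowers t := by
  obtain ⟨t, ht⟩ := IsCyclic.exists_generator (α := T)
  have hT' : T = Subgroup.zpowers (t : G) := by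
    refine le_antisymm (fun e he => ?_) (Subgroup.zpowers_le.mpr t.2)
    obtain ⟨i, hi⟩ := Subgroup.mem_zpowers_iff.mp (ht ⟨e, he⟩)
    exact ⟨i, by simpa using congrArg Subtype.val hi⟩
  refine ⟨t, orderOf_eq_prime (hexp t t.2) fun h => hT ?_, hT'⟩
  rw [hT', h, Subgroup.zpowers_one_eq_bot]

theorem orderOf_of_exponent {T : Subgroup G} {x : ℕ} [Fact x.Prime] (hexp : ∀ e ∈ T, e ^ x = 1)
    (hT : T ≠ ⊥) : ∃ t ∈ T, orderOf t = x := by
  obtain ⟨⟨t, ht⟩, h1⟩ := Subgroup.ne_bot_iff_exists_ne_one.mp hT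
  exact ⟨t, ht, orderOf_eq_prime (hexp t ht) fun h => h1 (Subtype.ext h)⟩

end CfsgLib.FourPrimes
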