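import Mathlib
import Cfsg.Agent.Lib.OddLocal.Cores
import Cfsg.Agent.Lib.PGroup.NormalRankTwo
import Cfsg.Agent.Lib.PSolvable.Omega
import Cfsg.Agent.Lib.FourPrimes.Setup

/-!
Elements centralizing the cyclic cores, a characteristic subgroup of prime exponent, and the part
of an abelian subgroup moved by a group normalizing it.
-/

set_option autoImplicit false
set_option linter.style.haveILetI false
set_option linter.unusedSectionVars false

open scoped commutatorElement

namespace CfsgLib.FourPrimes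

open CfsgLib.OddLocal (opOf)

universe u

variable {G : Type u} [Group G] [Finite G]

/-- The moved part of `U` under `W`. -/
theorem moved {U W : Subgroup G} [IsMulCommutative U] (hWU : W ≤ Subgroup.normalizer (U : Set G))
    (hcop : (Nat.card W).Coprime (Nat.card U)) (h : ¬ W ≤ Subgroup.centralizer (U : Set G)) :
    ⁅U, W⁆ ≤ U ∧ ⁅U, W⁆ ≠ ⊥ ∧ ⁅U, W⁆ ⊓ Subgroup.centralizer (W : Set G) = ⊥ ∧
      W ≤ Subgroup.normalizer ((⁅U, W⁆ : Subgroup G) : Set G) := by
  have hle := Coprime.commutator_le_left_of_le_normalizer hWU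
  refine ⟨hle, fun e => h ?_, ?_, Coprime.le_normalizer_commutator hWU Subgroup.le_normalizer⟩
  · rw [← Subgroup.commutator_eq_bot_iff_le_centralizer, Subgroup.commutator_comm, e]
  · rw [eq_bot_iff]
    intro x hx
    rw [← Coprime.centralizer_inf_commutator_eq_bot hWU hcop]
    obtain ⟨h1, h2⟩ := Subgroup.mem_inf.mp hx
    exact Subgroup.mem_inf.mpr ⟨Subgroup.mem_inf.mpr ⟨hle h1, h2⟩, h1⟩

theorem isPGroup_commute_cores {X : Subgroup G} {x y : ℕ} (hne : x ≠ y) {a b : G}
    (ha : a ∈ opOf x X) (hb : b ∈ opOf y X) : Commute a b :=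
  ((OddLocal.opOf_commute hne X) ha b hb).symm

/-- With all cores cyclic, commutators lie in the Fitting subgroup. -/
theorem commutator_mem_fitting {X : Subgroup G} (hX : Group.IsSolvable X)
    (hcyc : ∀ x : ℕ, x.Prime → IsCyclic (opOf x X)) {g g' : G} (hg : g ∈ X) (hg' : g' ∈ X) :
    ⁅g, g'⁆ ∈ Cfsg.fittingOf X := by
  refine OddLocal.inf_centralizer_fittingOf_le hX (Subgroup.mem_inf.mpr ⟨?_, ?_⟩)
  · rw [commutatorElement_def]
    exact mul_mem (mul_mem (mul_mem hg hg') (inv_mem hg)) (inv_mem hg')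
  · intro f hf
    have hle : Cfsg.fittingOf X ≤ Subgroup.centralizer ({⁅g, g'⁆} : Set G) := by
      refine OddLocal.fittingOf_le_of fun x hx a ha => ?_
      haveI := hcyc x hx
      have hn : ∀ z ∈ X, z ∈ Subgroup.normalizer (opOf x X : Set G) :=
        fun z hz => OddLocal.le_normalizer_piCoreOf _ X hz
      have hpw : ∀ z ∈ X, ∃ i : ℤ, ∀ c ∈ opOf x X, z * c * z⁻¹ = c ^ i := by
        intro z hz
        obtain ⟨c₀, hc₀⟩ := IsCyclic.exists_generator (α := opOf x X)
        obtain ⟨i, hi⟩ := Subgroup.mem_zpowers_iff.mp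
          (hc₀ ⟨_, (Subgroup.mem_normalizer_iff.mp (hn z hz) c₀).mp c₀.2⟩)
        refine ⟨i, fun c hc => ?_⟩
        obtain ⟨j, hj⟩ := Subgroup.mem_zpowers_iff.mp (hc₀ ⟨c, hc⟩)
        have hi' : (c₀ : G) ^ i = z * (c₀ : G) * z⁻¹ := by
          simpa using congrArg Subtype.val hi
        have hj' : (c₀ : G) ^ j = c := by simpa using congrArg Subtype.val hj
        rw [← hj', ← conj_zpow, ← hi', ← zpow_mul, ← zpow_mul, mul_comm]
      obtain ⟨i, hi⟩ := hpw g hg
      obtain ⟨i', hi'⟩ := hpw g' hg'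
      rw [Subgroup.mem_centralizer_singleton_iff]
      have h1 : (g * g') * a * (g * g')⁻¹ = (g' * g) * a * (g' * g)⁻¹ := by
        calc (g * g') * a * (g * g')⁻¹ = g * (g' * a * g'⁻¹) * g⁻¹ := by group
          _ = (a ^ i) ^ i' := by rw [hi' a ha, ← conj_zpow, hi a ha]
          _ = (a ^ i') ^ i := by rw [← zpow_mul, ← zpow_mul, mul_comm]
          _ = g' * (g * a * g⁻¹) * g'⁻¹ := by rw [hi a ha, ← conj_zpow, hi' a ha]
          _ = (g' * g) * a * (g' * g)⁻¹ := by group
      have h2 : ∀ b ∈ opOf x X, (g * g') * b * (g * g')⁻¹ = (g' * g) * b * (g' * g)⁻¹ := by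
        intro b hb
        calc (g * g') * b * (g * g')⁻¹ = g * (g' * b * g'⁻¹) * g⁻¹ := by group
          _ = (b ^ i) ^ i' := by rw [hi' b hb, ← conj_zpow, hi b hb]
          _ = (b ^ i') ^ i := by rw [← zpow_mul, ← zpow_mul, mul_comm]
          _ = g' * (g * b * g⁻¹) * g'⁻¹ := by rw [hi b hb, ← conj_zpow, hi' b hb]
          _ = (g' * g) * b * (g' * g)⁻¹ := by group
      have hz : (g' * g)⁻¹ ∈ Subgroup.normalizer (opOf x X : Set G) :=
        hn _ (inv_mem (mul_mem hg' hg))
      have hb : (g' * g)⁻¹ * a * (g' * g) ∈ opOf x X := by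
        have := (Subgroup.mem_normalizer_iff.mp hz a).mp ha
        rwa [inv_inv] at this
      have h3 := h2 _ hb
      rw [commutatorElement_def, ← mul_inv_eq_iff_eq_mul.mp ?_]
      calc g * g' * g⁻¹ * g'⁻¹ * a * (g * g' * g⁻¹ * g'⁻¹)⁻¹
          = (g * g') * ((g' * g)⁻¹ * a * (g' * g)) * (g * g')⁻¹ := by group
        _ = a := by rw [h3]; group
    exact (Subgroup.mem_centralizer_singleton_iff.mp (hle hf))

/-- With all cores cyclic, an element of prime order `s` centralizing the elements of prime order of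
the other cores lies in the `s`-core. -/
theorem mem_core_of_cyclic {X : Subgroup G} (hX : Group.IsSolvable X)
    (hcyc : ∀ x : ℕ, x.Prime → IsCyclic (opOf x X)) {s : ℕ} (hs : s.Prime) {v : G} (hv : v ∈ X)
    (hvo : orderOf v = s)
    (hcom : ∀ x : ℕ, x.Prime → x ≠ s → ∀ a ∈ opOf x X, orderOf a = x → Commute v a) :
    v ∈ opOf s X := by
  haveI := Fact.mk hs
  have hpow : ∀ x : ℕ, x.Prime → x ≠ s → opOf x X ≤ Subgroup.centralizer ({v} : Set G) := by
    intro x hx hxs a ha
    haveI := Fact.mk hx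
    haveI := hcyc x hx
    haveI : IsMulCommutative (opOf x X) := IsCyclic.commutative
    have h := Coprime.le_centralizer_of_prime_order (A := Subgroup.zpowers v) (V := opOf x X)
      (Subgroup.zpowers_le.mpr (OddLocal.le_normalizer_piCoreOf _ X hv)) (by
        rw [Nat.card_zpowers, hvo]
        obtain ⟨k, hk⟩ := IsPGroup.iff_card.mp (OddLocal.isPGroup_opOf hx X)
        rw [hk]
        exact ((Nat.coprime_primes hs hx).mpr hxs.symm).pow_right k) (by
        intro c hc hco w hw
        have hcx : orderOf c = x := by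
          obtain ⟨k, hk⟩ := (IsPGroup.iff_orderOf.mp (OddLocal.isPGroup_opOf hx X)) ⟨c, hc⟩
          rw [← Subgroup.orderOf_coe] at hk
          rw [show ((⟨c, hc⟩ : opOf x X) : G) = c from rfl] at hk
          rw [hk] at hco ⊢
          rw [Nat.Prime.pow_eq_iff hco |>.mp rfl |>.2, pow_one]
        obtain ⟨j, rfl⟩ := Subgroup.mem_zpowers_iff.mp hw
        exact ((hcom x hx hxs c hc hcx).zpow_left j).eq) (Subgroup.mem_zpowers v)
    rw [Subgroup.mem_centralizer_singleton_iff]
    exact h a ha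
  have hder : ∀ g ∈ X, ∀ g' ∈ X, ⁅g, g'⁆ ∈ Cfsg.fittingOf X := fun g hg g' hg' =>
    commutator_mem_fitting hX hcyc hg hg'
  set F := Cfsg.fittingOf X with hF
  set O := opOf s X with hO
  set P := O ⊔ Subgroup.zpowers v with hP
  set Q := F ⊔ Subgroup.zpowers v with hQ
  have hvn : v ∈ Subgroup.normalizer (O : Set G) := OddLocal.le_normalizer_piCoreOf _ X hv
  have hPp : IsPGroup s P := (OddLocal.isPGroup_opOf hs X).to_sup_of_normal_left'
    (IsPGroup.of_card (n := 1) (by rw [Nat.card_zpowers, hvo, pow_one])) (Subgroup.zpowers_le.mpr hvn)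
  have hQX : Q ≤ X := sup_le (OddLocal.fittingOf_le X) (Subgroup.zpowers_le.mpr hv)
  have hPQ : P ≤ Q := sup_le_sup_right (OddLocal.opOf_le_fittingOf hs X) _
  have hXQ : X ≤ Subgroup.normalizer (Q : Set G) := by
    intro g hg
    have hFn := OddLocal.le_normalizer_fittingOf X hg
    have key : ∀ z ∈ X, ∀ q ∈ Q, z * q * z⁻¹ ∈ Q := fun z hz q hq => by
      rw [show z * q * z⁻¹ = ⁅z, q⁆ * q by rw [commutatorElement_def]; group]
      exact mul_mem (Subgroup.mem_sup_left (hder z hz q (hQX hq))) hq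
    exact PrimaryParts.mem_normalizer_of_conj_mem fun q hq => key g hg q hq
  have hQP : Q ≤ Subgroup.normalizer (P : Set G) := by
    refine sup_le ?_ ((Subgroup.zpowers_le.mpr (Subgroup.mem_sup_right (Subgroup.mem_zpowers v))).trans
      Subgroup.le_normalizer)
    refine OddLocal.fittingOf_le_of fun x hx => ?_
    rcases eq_or_ne x s with rfl | hxs
    · exact le_sup_left.trans Subgroup.le_normalizer
    · refine le_trans ?_ (Subgroup.centralizer_le_normalizer _)
      intro a ha
      have h : P ≤ Subgroup.centralizer ({a} : Set G) := by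
        refine sup_le (fun b hb => ?_) (Subgroup.zpowers_le.mpr ?_)
        · rw [Subgroup.mem_centralizer_singleton_iff]
          exact (isPGroup_commute_cores (Ne.symm hxs) hb ha).eq
        · rw [Subgroup.mem_centralizer_singleton_iff]
          exact (Subgroup.mem_centralizer_singleton_iff.mp (hpow x hx hxs ha)).symm
      intro b hb
      exact Subgroup.mem_centralizer_singleton_iff.mp (h hb)
  have hsing : Cfsg.piCoreOf {s} Q ≤ opOf s X :=
    OddLocal.le_piCoreOf ((OddLocal.piCoreOf_le _ Q).trans hQX) (hXQ.trans (OddLocal.piCoreOf_normalizer_le _ Q))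
      (OddLocal.isPi_piCoreOf _ Q)
  exact hsing (OddLocal.le_piCoreOf hPQ hQP ((OddLocal.isPi_singleton_iff hs).2 hPp)
    (Subgroup.mem_sup_right (Subgroup.mem_zpowers v)))

/-- In a noncyclic `p`-subgroup, `p` odd: a noncyclic subgroup of exponent `p` whose commutators
with the whole are central, invariant under the normalizer. -/
theorem exists_char_exponent {p : ℕ} [hp : Fact p.Prime] (hp2 : p ≠ 2) {O : Subgroup G} (hO : IsPGroup p O)
    (hnc : ¬ IsCyclic O) : ∃ E : Subgroup G, E ≤ O ∧ ¬ IsCyclic E ∧ (∀ e ∈ E, e ^ p = 1) ∧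
      Subgroup.normalizer (O : Set G) ≤ Subgroup.normalizer (E : Set G) ∧
      ∀ e ∈ E, ∀ h ∈ O, ∀ k ∈ O, Commute ⁅e, h⁆ k := by
  have hcm : ∀ {g h k : G}, Commute g h → Commute g k → ⁅g, h * k⁆ = 1 := fun {g h k} a b =>
    commutatorElement_eq_one_iff_commute.mpr (a.mul_right b)
  have hmul : ∀ g g' h : G, (∀ k ∈ O, Commute ⁅g', h⁆ k) → g ∈ O → ⁅g * g', h⁆ = ⁅g', h⁆ * ⁅g, h⁆ := by
    intro g g' h hc hg
    calc ⁅g * g', h⁆ = g * ⁅g', h⁆ * g⁻¹ * ⁅g, h⁆ := by simp only [commutatorElement_def]; group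
      _ = ⁅g', h⁆ * ⁅g, h⁆ := by rw [← (hc g hg).eq]; group
  have hpw : ∀ g h : G, (∀ k ∈ O, Commute ⁅g, h⁆ k) → g ∈ O → ∀ n : ℕ,
      ⁅g ^ n, h⁆ = ⁅g, h⁆ ^ n := by
    intro g h hc hg n
    induction n with
    | zero => simp
    | succ n ih => rw [pow_succ, hmul _ _ _ hc (pow_mem hg n), ih, pow_succ']
  let E : Subgroup G :=
    { carrier := {g | g ∈ O ∧ g ^ p = 1 ∧ ∀ h ∈ O, ∀ k ∈ O, Commute ⁅g, h⁆ k}
      one_mem' := ⟨one_mem O, one_pow p, fun h _ k _ => by
        rw [commutatorElement_one_left]; exact Commute.one_left k⟩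
      mul_mem' := fun {a b} ha hb => ⟨mul_mem ha.1 hb.1, by
        have hc : ⁅b, a⁆ ^ p = 1 := by
          rw [← hpw b a (hb.2.2 a ha.1) hb.1, hb.2.1, commutatorElement_one_left]
        obtain ⟨m, hm⟩ : p ∣ p.choose 2 :=
          hp.out.dvd_choose_self (by norm_num) (lt_of_le_of_ne hp.out.two_le hp2.symm)
        rw [PSolvable.mul_pow_of_comm (hb.2.2 a ha.1 a ha.1) (hb.2.2 a ha.1 b hb.1) p, ha.2.1, hb.2.1,
          hm, pow_mul, hc, one_pow, one_mul, one_mul],
        fun h hh k hk => by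
          rw [hmul a b h (hb.2.2 h hh) ha.1]
          exact (hb.2.2 h hh k hk).mul_left (ha.2.2 h hh k hk)⟩
      inv_mem' := fun {a} ha => ⟨inv_mem ha.1, by rw [inv_pow, ha.2.1, inv_one], fun h hh k hk => by
        have e : ⁅a⁻¹, h⁆ = a⁻¹ * ⁅a, h⁆⁻¹ * a := by simp only [commutatorElement_def]; group
        have e2 : ⁅a⁻¹, h⁆ = ⁅a, h⁆⁻¹ := by
          rw [e, mul_assoc, ((ha.2.2 h hh a ha.1).inv_left).eq, ← mul_assoc, inv_mul_cancel, one_mul]
        rw [e2]
        exact (ha.2.2 h hh k hk).inv_left⟩ }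
  refine ⟨E, fun g hg => hg.1, ?_, fun e he => he.2.1, ?_, fun e he => he.2.2⟩
  · obtain ⟨A, -, hAn, hAe, hAc⟩ := CyclicMax.exists_normal_rank_two (R := O) hO hp2 ⊤ inferInstance
      fun h => hnc (isCyclic_of_surjective Subgroup.topEquiv (MulEquiv.surjective _))
    haveI := hAn
    haveI := hO.isNilpotent
    have hne : A ≠ ⊥ := by
      intro h
      rw [h, Subgroup.card_bot] at hAc
      have := Nat.one_lt_pow two_ne_zero hp.out.one_lt
      omega
    have hlt : ⁅A, (⊤ : Subgroup O)⁆ < A := Coprime.commutator_lt_of_isNilpotent le_top le_top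
      (by simp [Subgroup.normalizer_eq_top]) hne
    haveI : ⁅A, (⊤ : Subgroup O)⁆.Normal := Subgroup.commutator_normal _ _
    have hcen : ∀ c ∈ ⁅A, (⊤ : Subgroup O)⁆, ∀ k : O, Commute c k := by
      intro c hc k
      obtain ⟨i, -, hi⟩ := (Nat.dvd_prime_pow hp.out).mp
        (hAc ▸ Subgroup.card_dvd_of_le hlt.le)
      have hi1 : i ≤ 1 := by
        by_contra hgt
        push Not at hgt
        have h2 : Nat.card A ≤ Nat.card ↥⁅A, (⊤ : Subgroup O)⁆ := by
          rw [hAc, hi]; exact Nat.pow_le_pow_right hp.out.pos hgt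
        exact hlt.ne (Subgroup.eq_of_le_of_card_ge hlt.le h2)
      rcases eq_or_ne c 1 with rfl | hc1
      · exact Commute.one_left k
      have hco : orderOf c = p := orderOf_eq_prime (hAe.2 c (hlt.le hc)) hc1
      have hz : ⁅A, (⊤ : Subgroup O)⁆ = Subgroup.zpowers c := by
        refine (Subgroup.eq_of_le_of_card_ge (Subgroup.zpowers_le.mpr hc) ?_).symm
        rw [Nat.card_zpowers, hco, hi]
        exact (Nat.pow_le_pow_right hp.out.pos hi1).trans (pow_one p).le
      obtain ⟨m, hm⟩ := (IsPGroup.iff_orderOf.mp hO) k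
      refine (commute_of_line (G := O) hco ?_ hm).symm
      rw [← hz]
      exact Subgroup.Normal.conj_mem inferInstance c hc k
    intro hcyc
    haveI := hcyc
    have hAE : A.map O.subtype ≤ E := by
      rintro _ ⟨a, ha, rfl⟩
      refine ⟨a.2, ?_, fun h hh k hk => ?_⟩
      · simpa using congrArg Subtype.val (hAe.2 a ha)
      · have := (hcen _ (Subgroup.commutator_mem_commutator ha (Subgroup.mem_top (⟨h, hh⟩ : O)))
          ⟨k, hk⟩).map O.subtype
        simpa [map_commutatorElement] using this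
    haveI : IsCyclic (A.map O.subtype) :=
      isCyclic_of_surjective (Subgroup.subgroupOfEquivOfLe hAE) (MulEquiv.surjective _)
    haveI : IsCyclic A := isCyclic_of_surjective
      (A.equivMapOfInjective O.subtype O.subtype_injective).symm (MulEquiv.surjective _)
    have := Coprime.not_isCyclic_of_exponent (G := O) hAe.2 hp.out.pos (by
      rw [hAc]; exact lt_self_pow₀ hp.out.one_lt one_lt_two)
    exact this inferInstance
  · intro g hg
    refine PrimaryParts.mem_normalizer_of_conj_mem fun e he => ?_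
    have hn := fun x => (Subgroup.mem_normalizer_iff.mp hg x)
    refine ⟨(hn e).mp he.1, by rw [conj_pow, he.2.1, mul_one, mul_inv_cancel], fun h hh k hk => ?_⟩
    have hh' : g⁻¹ * h * g ∈ O := by rw [hn, show g * (g⁻¹ * h * g) * g⁻¹ = h by group]; exact hh
    have hk' : g⁻¹ * k * g ∈ O := by rw [hn, show g * (g⁻¹ * k * g) * g⁻¹ = k by group]; exact hk
    have h1 := (he.2.2 _ hh' _ hk').map (MulAut.conj g).toMonoidHom
    simpa [map_commutatorElement, mul_assoc] using h1

end CfsgLib.FourPrimes
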