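import Mathlib
import Cfsg.Agent.Lib.FourPrimes.Setup
import Cfsg.Agent.Lib.FourPrimes.Core

/-!
Four primes: two normal Sylow subgroups centralizing each other are impossible.
-/

set_option autoImplicit false
set_option linter.style.haveILetI false
set_option linter.unusedSectionVars false

open scoped commutatorElement

namespace CfsgLib.FourPrimes

open CfsgLib.OddLocal (opOf)

universe u

variable {G : Type u} [Group G] [Finite G]

theorem centralizer_zpowers_eq (t : G) :
    Subgroup.centralizer (Subgroup.zpowers t : Set G) = Subgroup.centralizer ({t} : Set G) := by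
  rw [Subgroup.zpowers_eq_closure, Subgroup.centralizer_closure]

theorem orderOf_of_mem {N : Subgroup G} {p : ℕ} [Fact p.Prime] (hN : ∀ n ∈ N, n ^ p = 1) {n : G}
    (hn : n ∈ N) (h1 : n ≠ 1) : orderOf n = p := orderOf_eq_prime (hN n hn) h1

/-- An involution without fixed points on an abelian subgroup inverts it. -/
theorem inverts {U : Subgroup G} [IsMulCommutative U] {t : G} (ht : orderOf t = 2)
    (htU : t ∈ Subgroup.normalizer (U : Set G)) (hf : fx U t = ⊥) {u : G} (hu : u ∈ U) :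
    t * u * t⁻¹ = u⁻¹ := by
  have h2 : t * t = 1 := by rw [← pow_two, ← ht, pow_orderOf_eq_one]
  have hti : t⁻¹ = t := inv_eq_of_mul_eq_one_right h2
  set v := t * u * t⁻¹ with hv
  have hvU : v ∈ U := (Subgroup.mem_normalizer_iff.mp htU u).mp hu
  have hcomm : Commute (u * v) t := by
    have h3 : t * (u * v) = (v * u) * t := by
      rw [hv, hti]; simp only [mul_assoc]
    have h4 : v * u = u * v := (commute_of_mem hvU hu).eq
    show u * v * t = t * (u * v)
    rw [h3, h4]
  by_contra hne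
  refine fx_ne_bot (mul_mem hu hvU) (fun e => hne ?_) hcomm hf
  exact (inv_eq_of_mul_eq_one_right e).symm

/-- Subgroups of prime order of a cyclic normalized subgroup are normalized. -/
theorem line_of_cyclic {X O : Subgroup G} [IsCyclic O] (hXO : X ≤ Subgroup.normalizer (O : Set G)) {a : G}
    (ha : a ∈ O) : X ≤ Subgroup.normalizer (Subgroup.zpowers a : Set G) := by
  intro g hg
  refine PrimaryParts.mem_normalizer_of_conj_mem fun w hw => ?_
  have hga : g * a * g⁻¹ ∈ O := (Subgroup.mem_normalizer_iff.mp (hXO hg) a).mp ha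
  have h : Subgroup.zpowers (g * a * g⁻¹) = Subgroup.zpowers a :=
    Spectrum.eq_of_card_eq_cyclic_aux (W := O) (Subgroup.zpowers_le.mpr hga) (Subgroup.zpowers_le.mpr ha)
      (by rw [Nat.card_zpowers, Nat.card_zpowers, orderOf_conj])
  obtain ⟨j, rfl⟩ := Subgroup.mem_zpowers_iff.mp hw
  rw [← conj_zpow, ← h]
  exact ⟨j, rfl⟩

/-- The setting: `N` and `M` are normal Sylow subgroups for `p` and `q`, `K` carries `r` and `s`. -/
structure Two (σ : Finset ℕ) (p q r s : ℕ) (N M K : Subgroup G) : Prop where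
  quad : Quad G σ
  solv : Group.IsSolvable G
  mem : p ∈ σ ∧ q ∈ σ ∧ r ∈ σ ∧ s ∈ σ
  dis : p ≠ q ∧ p ≠ r ∧ p ≠ s ∧ q ≠ r ∧ q ≠ s ∧ r ≠ s
  commN : IsMulCommutative N
  commM : IsMulCommutative M
  expN : ∀ n ∈ N, n ^ p = 1
  expM : ∀ n ∈ M, n ^ q = 1
  neN : N ≠ ⊥
  neM : M ≠ ⊥
  comm : ∀ n ∈ N, ∀ m ∈ M, Commute n m
  normN : K ≤ Subgroup.normalizer (N : Set G)
  normM : K ≤ Subgroup.normalizer (M : Set G)
  irrN : ∀ T : Subgroup G, T ≤ K → K ≤ Subgroup.normalizer (T : Set G) →
    ¬ T ≤ Subgroup.centralizer (N : Set G) → N ⊓ Subgroup.centralizer (T : Set G) = ⊥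
  irrM : ∀ T : Subgroup G, T ≤ K → K ≤ Subgroup.normalizer (T : Set G) →
    ¬ T ≤ Subgroup.centralizer (M : Set G) → M ⊓ Subgroup.centralizer (T : Set G) = ⊥
  copN : (Nat.card K).Coprime (Nat.card N)
  copM : (Nat.card K).Coprime (Nat.card M)
  idxr : ¬ r ∣ K.index
  idxs : ¬ s ∣ K.index
  primes : ∀ x : ℕ, x.Prime → x ∣ Nat.card K → x = r ∨ x = s

namespace Two

variable {σ : Finset ℕ} {p q r s : ℕ} {N M K : Subgroup G}

theorem swap (h : Two σ p q r s N M K) : Two σ q p r s M N K := by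
  obtain ⟨hp, hq, hr, hs⟩ := h.mem
  obtain ⟨h1, h2, h3, h4, h5, h6⟩ := h.dis
  exact ⟨h.quad, h.solv, ⟨hq, hp, hr, hs⟩, ⟨h1.symm, h4, h5, h2, h3, h6⟩, h.commM, h.commN, h.expM, h.expN,
    h.neM, h.neN, fun n hn m hm => (h.comm m hm n hn).symm, h.normM, h.normN, h.irrM, h.irrN, h.copM,
    h.copN, h.idxr, h.idxs, h.primes⟩

theorem swap' (h : Two σ p q r s N M K) : Two σ p q s r N M K := by
  obtain ⟨hp, hq, hr, hs⟩ := h.mem
  obtain ⟨h1, h2, h3, h4, h5, h6⟩ := h.dis
  exact ⟨h.quad, h.solv, ⟨hp, hq, hs, hr⟩, ⟨h1, h3, h2, h5, h4, h6.symm⟩, h.commN, h.commM, h.expN, h.expM,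
    h.neN, h.neM, h.comm, h.normN, h.normM, h.irrN, h.irrM, h.copN, h.copM, h.idxs, h.idxr,
    fun x hx hd => (h.primes x hx hd).symm⟩

/-- No element of prime order fixes points on both. -/
theorem nfix (h : Two σ p q r s N M K) {x : ℕ} {e : G} (hx : x = r ∨ x = s) (he : orderOf e = x)
    (hN : fx N e ≠ ⊥) : fx M e = ⊥ := by
  obtain ⟨hp, hq, hr, hs⟩ := h.mem
  obtain ⟨h1, h2, h3, h4, h5, h6⟩ := h.dis
  by_contra hM
  haveI : Fact p.Prime := ⟨h.quad.prime p hp⟩
  haveI : Fact q.Prime := ⟨h.quad.prime q hq⟩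
  obtain ⟨n, hn, hn1, hne⟩ := exists_mem_fx hN
  obtain ⟨m, hm, hm1, hme⟩ := exists_mem_fx hM
  rcases hx with rfl | rfl
  · exact h.quad.triple p hp q hq x hr h1 h4 h2 n m e (orderOf_of_mem h.expN hn hn1)
      (orderOf_of_mem h.expM hm hm1) he (h.comm n hn m hm) hne hme
  · exact h.quad.triple p hp q hq x hs h1 h5 h3 n m e (orderOf_of_mem h.expN hn hn1)
      (orderOf_of_mem h.expM hm hm1) he (h.comm n hn m hm) hne hme

/-- An element of order `s` fixing a point of `N`. -/
theorem exists_fix (h : Two σ p q r s N M K) :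
    ∃ v ∈ K, orderOf v = s ∧ fx N v ≠ ⊥ := by
  haveI := h.solv
  haveI := h.commN
  obtain ⟨hp, hq, hr, hs⟩ := h.mem
  haveI : Fact s.Prime := ⟨h.quad.prime s hs⟩
  obtain ⟨P, -, hPK, hP⟩ := exists_full (Y := (⊥ : Subgroup G)) h.idxs bot_le IsPGroup.of_bot
  obtain ⟨b, hb, t, ht, hbo, hto, hbt, hne⟩ := h.quad.exists_indep hs hP
  obtain ⟨v, hv, hvo, hvf⟩ := exists_fixed_of_pair hbo hto hbt hne h.neN (h.normN (hPK hb)) (h.normN (hPK ht))
  exact ⟨v, (Subgroup.closure_le _).mpr (by rintro z (rfl | rfl) <;> exact hPK (by assumption)) hv, hvo, hvf⟩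

theorem coprime_of (h : Two σ p q r s N M K) {T : Subgroup G} (hT : ∀ e ∈ T, e ^ r = 1) {n : ℕ}
    (hn : ¬ r ∣ n) : (Nat.card T).Coprime n := by
  obtain ⟨hp, hq, hr, hs⟩ := h.mem
  haveI : Fact r.Prime := ⟨h.quad.prime r hr⟩
  obtain ⟨k, hk⟩ := IsPGroup.iff_card.mp (show IsPGroup r T from fun e =>
    ⟨1, Subtype.ext (by rw [pow_one, Subgroup.coe_pow, hT e e.2, Subgroup.coe_one])⟩)
  rw [hk]
  exact ((h.quad.prime r hr).coprime_iff_not_dvd.mpr hn).pow_left k

theorem no_noncyclic (h : Two σ p q r s N M K) {E : Subgroup G} (hEK : E ≤ K)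
    (hKE : K ≤ Subgroup.normalizer (E : Set G)) [IsMulCommutative E] (hexp : ∀ e ∈ E, e ^ r = 1)
    (hnc : ¬ IsCyclic E) (hM : E ⊓ Subgroup.centralizer (M : Set G) = ⊥) : False := by
  haveI := h.commN
  haveI := h.commM
  obtain ⟨hp, hq, hr, hs⟩ := h.mem
  obtain ⟨h1, h2, h3, h4, h5, h6⟩ := h.dis
  haveI : Fact r.Prime := ⟨h.quad.prime r hr⟩
  haveI : Fact p.Prime := ⟨h.quad.prime p hp⟩
  have hsp := h.quad.prime s hs
  have hrs : ¬ r ∣ s := fun hd => h6 ((Nat.prime_dvd_prime_iff_eq (h.quad.prime r hr) hsp).mp hd)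
  obtain ⟨v, hvK, hvo, hvf⟩ := h.exists_fix
  have hV : Subgroup.zpowers v ≤ Subgroup.normalizer (E : Set G) := Subgroup.zpowers_le.mpr (hKE hvK)
  have hcop : (Nat.card (Subgroup.zpowers v)).Coprime (Nat.card E) := by
    rw [Nat.card_zpowers, hvo]; exact (h.coprime_of hexp hrs).symm
  by_cases hc : Subgroup.zpowers v ≤ Subgroup.centralizer (E : Set G)
  · -- `E` acts on the fixed points of `v`
    have hcom : ∀ e ∈ E, Commute e v := fun e he =>
      commute_of_mem_centralizer (hc (Subgroup.mem_zpowers v)) he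
    haveI := isMulCommutative_of_le (fx_le N v)
    obtain ⟨e, he, he1, hef⟩ := exists_fixed_of_noncyclic (A := E) hvf
      (fun e he => mem_normalizer_fx (h.normN (hEK he)) (hcom e he)) hnc
    obtain ⟨n, hn, hn1, hne⟩ := exists_mem_fx hef
    obtain ⟨hnN, hnv⟩ := mem_fx.mp hn
    exact h.quad.triple p hp r hr s hs h2 h6 h3 n e v (orderOf_of_mem h.expN hnN hn1)
      (orderOf_eq_of_exponent hexp he he1) hvo hne hnv (hcom e he)
  · obtain ⟨hle, hne1, hfix1, hn1⟩ := moved hV hcop hc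
    set E₁ := ⁅E, Subgroup.zpowers v⁆ with hE₁
    have hE1K : E₁ ≤ Subgroup.normalizer (M : Set G) := (hle.trans hEK).trans h.normM
    have hcopE : (Nat.card E₁).Coprime (Nat.card M) :=
      (h.copM.coprime_dvd_left (Subgroup.card_dvd_of_le hEK)).coprime_dvd_left (Subgroup.card_dvd_of_le hle)
    have hnot : ¬ E₁ ≤ Subgroup.centralizer (M : Set G) := fun hle' => hne1 (by
      rw [eq_bot_iff, ← hM]; exact le_inf hle hle')
    obtain ⟨hUle, hU, hUfix, hUn⟩ := moved hE1K hcopE hnot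
    haveI := isMulCommutative_of_le hUle
    have hvU : v ∈ Subgroup.normalizer ((⁅M, E₁⁆ : Subgroup G) : Set G) :=
      Coprime.le_normalizer_commutator (Subgroup.zpowers_le.mpr (h.normM hvK)) hn1 (Subgroup.mem_zpowers v)
    have hf := exists_fixed_prime hsp hvo hU hUn hvU (hn1 (Subgroup.mem_zpowers v))
      (hcopE.symm.coprime_dvd_left (Subgroup.card_dvd_of_le hUle)) hUfix
      ((hcop.coprime_dvd_right (Subgroup.card_dvd_of_le hle)).coprime_dvd_left
        (by rw [Nat.card_zpowers, hvo]))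
      fun w hw hcw => by
        have : w ∈ E₁ ⊓ Subgroup.centralizer (Subgroup.zpowers v : Set G) :=
          Subgroup.mem_inf.mpr ⟨hw, mem_centralizer_zpowers hcw.symm⟩
        rw [hfix1, Subgroup.mem_bot] at this
        rw [this]; exact one_mem _
    exact hf (le_bot_iff.mp ((fx_mono hUle v).trans (h.nfix (Or.inr rfl) hvo hvf).le))

theorem fx_of_fixed_line {U : Subgroup G} {t : G} (h : U ⊓ Subgroup.centralizer (Subgroup.zpowers t : Set G) = ⊥) :
    fx U t = ⊥ := by
  rwa [centralizer_zpowers_eq] at h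

theorem move_line (h : Two σ p q r s N M K) {t v : G} (ht : t ∈ K) (hto : orderOf t = r) (hv : v ∈ K)
    (hvo : orderOf v = s) (hKt : K ≤ Subgroup.normalizer (Subgroup.zpowers t : Set G))
    (hvt : ¬ Commute v t) (htN : ¬ Subgroup.zpowers t ≤ Subgroup.centralizer (N : Set G)) :
    fx N v ≠ ⊥ := by
  haveI := h.commN
  obtain ⟨hp, hq, hr, hs⟩ := h.mem
  obtain ⟨h1, h2, h3, h4, h5, h6⟩ := h.dis
  haveI : Fact r.Prime := ⟨h.quad.prime r hr⟩
  refine exists_fixed_prime (h.quad.prime s hs) hvo h.neN ((Subgroup.zpowers_le.mpr ht).trans h.normN)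
    (h.normN hv) (hKt hv) ((h.copN.coprime_dvd_left (Subgroup.card_dvd_of_le (Subgroup.zpowers_le.mpr ht))).symm)
    (h.irrN _ (Subgroup.zpowers_le.mpr ht) hKt htN) ?_ fun w hw hcw => ?_
  · rw [Nat.card_zpowers, hto]
    exact (Nat.coprime_primes (h.quad.prime s hs) (h.quad.prime r hr)).mpr h6.symm
  · rcases eq_or_ne w 1 with rfl | hw1
    · exact one_mem _
    · exfalso
      refine hvt ?_
      have hexp : ∀ e ∈ Subgroup.zpowers t, e ^ r = 1 := by
        rintro e ⟨j, rfl⟩
        show (t ^ j) ^ r = 1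
        rw [← zpow_natCast, ← zpow_mul, mul_comm, zpow_mul, zpow_natCast, ← hto,
          pow_orderOf_eq_one, one_zpow]
      obtain ⟨i, hi⟩ := Subgroup.mem_zpowers_iff.mp (show t ∈ Subgroup.zpowers w from by
        rw [Subgroup.eq_of_le_of_card_ge (Subgroup.zpowers_le.mpr hw) (by
          rw [Nat.card_zpowers, Nat.card_zpowers, hto, orderOf_eq_of_exponent hexp hw hw1])]
        exact Subgroup.mem_zpowers t)
      rw [← hi]
      exact hcw.zpow_right i

theorem not_central (h : Two σ p q r s N M K) {t : G} (ht : t ∈ K) (hto : orderOf t = r)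
    (hKt : K ≤ Subgroup.normalizer (Subgroup.zpowers t : Set G)) :
    ¬ Subgroup.zpowers t ≤ Subgroup.centralizer (N : Set G) := by
  intro hc
  haveI := h.commN
  obtain ⟨hp, hq, hr, hs⟩ := h.mem
  obtain ⟨h1, h2, h3, h4, h5, h6⟩ := h.dis
  haveI : Fact p.Prime := ⟨h.quad.prime p hp⟩
  obtain ⟨v, hvK, hvo, hvf⟩ := h.exists_fix
  have htn : ∀ n ∈ N, Commute n t := fun n hn =>
    commute_of_mem_centralizer (hc (Subgroup.mem_zpowers t)) hn
  by_cases hvt : Commute v t
  · obtain ⟨n, hn, hn1, hne⟩ := exists_mem_fx hvf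
    exact h.quad.triple p hp r hr s hs h2 h6 h3 n t v (orderOf_of_mem h.expN hn hn1) hto hvo (htn n hn)
      hne hvt.symm
  · refine h.swap.move_line ht hto hvK hvo hKt hvt (fun hcM => ?_) (h.nfix (Or.inr rfl) hvo hvf)
    obtain ⟨⟨n, hn⟩, hn1⟩ := Subgroup.ne_bot_iff_exists_ne_one.mp h.neN
    obtain ⟨⟨m, hm⟩, hm1⟩ := Subgroup.ne_bot_iff_exists_ne_one.mp h.neM
    exact fx_ne_bot hm (fun e => hm1 (Subtype.ext e))
      (commute_of_mem_centralizer (hcM (Subgroup.mem_zpowers t)) hm)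
      (h.nfix (Or.inl rfl) hto (fx_ne_bot hn (fun e => hn1 (Subtype.ext e)) (htn n hn)))

theorem line (h : Two σ p q r s N M K) {t : G} (ht : t ∈ K) (hto : orderOf t = r)
    (hKt : K ≤ Subgroup.normalizer (Subgroup.zpowers t : Set G)) :
    fx N t = ⊥ ∧ fx M t = ⊥ ∧ ∀ v ∈ K, orderOf v = s → Commute v t := by
  refine ⟨fx_of_fixed_line (h.irrN _ (Subgroup.zpowers_le.mpr ht) hKt (h.not_central ht hto hKt)),
    fx_of_fixed_line (h.irrM _ (Subgroup.zpowers_le.mpr ht) hKt (h.swap.not_central ht hto hKt)),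
    fun v hv hvo => ?_⟩
  by_contra hvt
  exact h.swap.move_line ht hto hv hvo hKt hvt (h.swap.not_central ht hto hKt)
    (h.nfix (Or.inr rfl) hvo (h.move_line ht hto hv hvo hKt hvt (h.not_central ht hto hKt)))

/-- Nothing in `K` centralizes `N`. -/
theorem faithful (h : Two σ p q r s N M K) : K ⊓ Subgroup.centralizer (N : Set G) = ⊥ := by
  haveI := h.solv
  haveI := h.commM
  by_contra hne
  obtain ⟨T, x, hTC, hT, hKT, -, hx, hxd, hTc, hexp⟩ := exists_minimal (K := K)
    (M := K ⊓ Subgroup.centralizer (N : Set G))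
    (Coprime.le_normalizer_inf_of_le Subgroup.le_normalizer
      (fun g hg => mem_normalizer_centralizer (h.normN hg))) hne
  haveI := hTc
  haveI := Fact.mk hx
  have hTK : T ≤ K := hTC.trans inf_le_left
  have hxrs := h.primes x hx (hxd.trans (Subgroup.card_dvd_of_le hTK))
  obtain ⟨⟨n, hn⟩, hn1⟩ := Subgroup.ne_bot_iff_exists_ne_one.mp h.neN
  by_cases hcy : IsCyclic T
  · obtain ⟨t, hto, rfl⟩ := eq_zpowers_of_cyclic hT hexp
    have htc : Commute n t :=
      commute_of_mem_centralizer (hTC (Subgroup.mem_zpowers t)).2 hn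
    have hbot : fx N t = ⊥ := by
      rcases hxrs with rfl | rfl
      · exact (h.line (hTK (Subgroup.mem_zpowers t)) hto hKT).1
      · exact (h.swap'.line (hTK (Subgroup.mem_zpowers t)) hto hKT).1
    exact fx_ne_bot hn (fun e => hn1 (Subtype.ext e)) htc hbot
  · obtain ⟨e, he, he1, hef⟩ := exists_fixed_of_noncyclic (A := T) h.neM (hTK.trans h.normM) hcy
    exact hef (h.nfix hxrs (orderOf_eq_of_exponent hexp he he1)
      (fx_ne_bot hn (fun e' => hn1 (Subtype.ext e')) (commute_of_mem_centralizer (hTC he).2 hn)))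

theorem no_noncyclic' (h : Two σ p q r s N M K) {E : Subgroup G} (hEK : E ≤ K)
    (hKE : K ≤ Subgroup.normalizer (E : Set G)) [IsMulCommutative E] (hexp : ∀ e ∈ E, e ^ r = 1)
    (hnc : ¬ IsCyclic E) : False :=
  h.no_noncyclic hEK hKE hexp hnc (le_bot_iff.mp ((inf_le_inf_right _ hEK).trans h.swap.faithful.le))

theorem core_cyclic (h : Two σ p q r s N M K) : IsCyclic (opOf r K) := by
  haveI := h.solv
  haveI := h.commN
  haveI := h.commM
  obtain ⟨hp, hq, hr, hs⟩ := h.mem
  haveI : Fact r.Prime := ⟨h.quad.prime r hr⟩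
  by_contra hnc
  set O := opOf r K with hO
  have hOK : O ≤ K := OddLocal.piCoreOf_le _ K
  have hKO : K ≤ Subgroup.normalizer (O : Set G) := OddLocal.le_normalizer_piCoreOf _ K
  have hOp : IsPGroup r O := OddLocal.isPGroup_opOf (h.quad.prime r hr) K
  by_cases hr2 : r = 2
  · subst hr2
    have hOne : O ≠ ⊥ := fun e => hnc (e ▸ inferInstance)
    obtain ⟨T, x, hTO, hT, hKT, -, hx, hxd, hTc, hexp⟩ := exists_minimal (K := K) hKO hOne
    obtain ⟨k, hk⟩ := IsPGroup.iff_card.mp hOp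
    obtain rfl : x = 2 := (Nat.prime_dvd_prime_iff_eq hx Nat.prime_two).mp
      (hx.dvd_of_dvd_pow (hk ▸ hxd.trans (Subgroup.card_dvd_of_le hTO)))
    haveI := hTc
    by_cases hcy : IsCyclic T
    · obtain ⟨t, hto, rfl⟩ := eq_zpowers_of_cyclic hT hexp
      have htK : t ∈ K := hOK (hTO (Subgroup.mem_zpowers t))
      obtain ⟨hN, hM, -⟩ := h.line htK hto hKT
      obtain ⟨P, htP, hPK, hP⟩ := exists_full h.idxr (Subgroup.zpowers_le.mpr htK) (isPGroup_zpowers hto)
      obtain ⟨b, hb, hbo, hbt⟩ := h.quad.exists_pair_of_central hr hP hto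
      have hbc : Commute b t := by
        refine commute_of_line hto
          ((Subgroup.mem_normalizer_iff.mp (hKT (hPK hb)) t).mp (Subgroup.mem_zpowers t)) (k := 1) ?_
        rw [hbo, pow_one]
      obtain ⟨e, he, heo, hef⟩ := exists_fixed_of_pair hbo hto hbc hbt h.neN (h.normN (hPK hb)) (h.normN htK)
      have heK : e ∈ K := (Subgroup.closure_le _).mpr (by
        rintro z (rfl | rfl)
        · exact hPK hb
        · exact htK) he
      have het : Commute e t := by
        haveI := (pair_group hbo hto hbc hbt).1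
        exact commute_of_mem he (Subgroup.subset_closure (Set.mem_insert_of_mem b rfl))
      have hinv := fun m hm => inverts heo (h.normM heK) (h.nfix (Or.inl rfl) heo hef) (u := m) hm
      have hmem : e * t ∈ K ⊓ Subgroup.centralizer (M : Set G) := by
        refine Subgroup.mem_inf.mpr ⟨mul_mem heK htK, fun m hm => ?_⟩
        have h2 := inverts hto (h.normM htK) hM hm
        have h3 := hinv _ (inv_mem hm)
        rw [inv_inv, ← h2, mul_inv_eq_iff_eq_mul] at h3
        calc m * (e * t) = (m * e) * t := by group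
          _ = (e * (t * m * t⁻¹)) * t := by rw [← h3]
          _ = e * t * m := by group
      rw [h.swap.faithful, Subgroup.mem_bot] at hmem
      apply hef
      rw [show e = t from by
        rw [mul_eq_one_iff_eq_inv.mp hmem]
        exact inv_eq_of_mul_eq_one_right (by rw [← pow_two, ← hto, pow_orderOf_eq_one])]
      exact hN
    · exact h.no_noncyclic' (hTO.trans hOK) hKT hexp hcy
  · obtain ⟨E, hEO, hEnc, hEexp, hEn, hEc⟩ := exists_char_exponent hr2 hOp hnc
    have hKE : K ≤ Subgroup.normalizer (E : Set G) := hKO.trans hEn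
    by_cases hEab : IsMulCommutative E
    · exact h.no_noncyclic' (hEO.trans hOK) hKE hEexp hEnc
    set Z := E ⊓ Subgroup.centralizer (E : Set G) with hZ
    have hKZ : K ≤ Subgroup.normalizer (Z : Set G) :=
      Coprime.le_normalizer_inf_of_le hKE (fun g hg => mem_normalizer_centralizer (hKE hg))
    haveI : IsMulCommutative Z :=
      ⟨⟨fun a b => Subtype.ext ((Subgroup.mem_inf.mp b.2).2 a (Subgroup.mem_inf.mp a.2).1)⟩⟩
    obtain ⟨c, hc, e, he, hce⟩ : ∃ c ∈ E, ∃ e ∈ E, ¬ Commute c e := by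
      by_contra hall
      push Not at hall
      exact hEab ⟨⟨fun a b => Subtype.ext (hall a a.2 b b.2).eq⟩⟩
    have hec : ⁅e, c⁆ ∈ Z := Subgroup.mem_inf.mpr ⟨by
        rw [commutatorElement_def]
        exact mul_mem (mul_mem (mul_mem he hc) (inv_mem he)) (inv_mem hc),
      fun k hk => ((hEc e he c (hEO hc) k (hEO hk)).eq).symm⟩
    have hec1 : ⁅e, c⁆ ≠ 1 := fun hh => hce (commutatorElement_eq_one_iff_commute.mp hh).symm
    have hZne : Z ≠ ⊥ := fun hh => hec1 (Subgroup.mem_bot.mp (hh ▸ hec))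
    by_cases hZc : IsCyclic Z
    · obtain ⟨a, hao, hZa⟩ := eq_zpowers_of_cyclic (x := r) hZne fun z hz => hEexp z hz.1
      have haZ : a ∈ Z := hZa ▸ Subgroup.mem_zpowers a
      have haK : a ∈ K := hOK (hEO haZ.1)
      obtain ⟨hN, hM, -⟩ := h.line haK hao (hZa ▸ hKZ)
      have hcZ : c ∉ Subgroup.zpowers a := fun hcz => by
        rw [← hZa] at hcz
        exact hce (commute_of_mem_centralizer (Subgroup.mem_inf.mp hcz).2 he).symm
      have hco : orderOf c = r := orderOf_eq_of_exponent hEexp hc fun hh => hce (hh ▸ Commute.one_left e)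
      have hac : Commute a c := (commute_of_mem_centralizer haZ.2 hc).symm
      have hea : Commute e a := commute_of_mem_centralizer haZ.2 he
      rw [hZa] at hec
      exact exists_fixed_of_commutator hao hco hac hcZ hea hec hec1 h.neM (h.normM haK)
        (h.normM (hOK (hEO hc))) (h.normM (hOK (hEO he))) hM
        (h.nfix (Or.inl rfl) hco (exists_fixed_of_commutator hao hco hac hcZ hea hec hec1 h.neN
          (h.normN haK) (h.normN (hOK (hEO hc))) (h.normN (hOK (hEO he))) hN))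
    · exact h.no_noncyclic' (inf_le_left.trans (hEO.trans hOK)) hKZ (fun z hz => hEexp z hz.1) hZc

theorem false (h : Two σ p q r s N M K) : False := by
  haveI := h.solv
  obtain ⟨hp, hq, hr, hs⟩ := h.mem
  haveI : Fact s.Prime := ⟨h.quad.prime s hs⟩
  have hKs : Group.IsSolvable K := solvable_of_solvable_injective K.subtype_injective
  have hdvd : ∀ x : ℕ, x.Prime → opOf x K ≠ ⊥ → x = r ∨ x = s := by
    intro x hx hne
    haveI := Fact.mk hx
    obtain ⟨k, hk⟩ := IsPGroup.iff_card.mp (OddLocal.isPGroup_opOf hx K)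
    have hk0 : k ≠ 0 := fun h0 => hne (Subgroup.card_eq_one.mp (by rw [hk, h0, pow_zero]))
    exact h.primes x hx ((hk ▸ dvd_pow_self x hk0).trans
      (Subgroup.card_dvd_of_le (OddLocal.piCoreOf_le _ K)))
  have hcyc : ∀ x : ℕ, x.Prime → IsCyclic (opOf x K) := by
    intro x hx
    by_cases hne : opOf x K = ⊥
    · rw [hne]; infer_instance
    rcases hdvd x hx hne with rfl | rfl
    · exact h.core_cyclic
    · exact h.swap'.core_cyclic
  obtain ⟨P, -, hPK, hP⟩ := exists_full (Y := (⊥ : Subgroup G)) h.idxs bot_le IsPGroup.of_bot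
  obtain ⟨b, hb, t, ht, hbo, hto, hbt, hne⟩ := h.quad.exists_indep hs hP
  have hmem : ∀ v ∈ K, orderOf v = s → v ∈ opOf s K := fun v hv hvo =>
    mem_core_of_cyclic hKs hcyc (h.quad.prime s hs) hv hvo fun x hx hxs a ha hao => by
      have hxne : opOf x K ≠ ⊥ := fun hh => hx.ne_one (by
        rw [hh, Subgroup.mem_bot] at ha
        rw [← hao, ha, orderOf_one])
      obtain rfl : x = r := (hdvd x hx hxne).resolve_right hxs
      haveI := hcyc x hx
      exact (h.line (OddLocal.piCoreOf_le _ K ha) hao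
        (line_of_cyclic (OddLocal.le_normalizer_piCoreOf _ K) ha)).2.2 v hv hvo
  haveI := hcyc s (h.quad.prime s hs)
  apply hne
  rw [← Spectrum.eq_of_card_eq_cyclic_aux (W := opOf s K) (Subgroup.zpowers_le.mpr (hmem b (hPK hb) hbo))
    (Subgroup.zpowers_le.mpr (hmem t (hPK ht) hto)) (by rw [Nat.card_zpowers, Nat.card_zpowers, hbo, hto])]
  exact Subgroup.mem_zpowers b

end Two

end CfsgLib.FourPrimes
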