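import Mathlib
import Cfsg.Agent.Lib.FourPrimes.TwoNormal

/-!
Four primes, faithful action on a normal Sylow subgroup: the lemma on commuting elements and
normal elementary subgroups, and the exclusion of noncyclic ones.
-/

set_option autoImplicit false
set_option linter.style.haveILetI false
set_option linter.unusedSectionVars false

open scoped commutatorElement

namespace CfsgLib.FourPrimes

open CfsgLib.OddLocal (opOf)

universe u

variable {G : Type u} [Group G] [Finite G]

theorem mem_zpowers_swap {r : ℕ} [hr : Fact r.Prime] {x y : G} (hx : orderOf x = r) (hy : orderOf y = r)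
    (h : x ∈ Subgroup.zpowers y) : y ∈ Subgroup.zpowers x := by
  have := Subgroup.eq_of_le_of_card_ge (Subgroup.zpowers_le.mpr h)
    (by rw [Nat.card_zpowers, Nat.card_zpowers, hx, hy])
  exact this ▸ Subgroup.mem_zpowers y

theorem commute_of_generator {w a b : G} {r : ℕ} [hr : Fact r.Prime] (ha : orderOf a = r) (hw : w ≠ 1)
    (hwa : w ∈ Subgroup.zpowers a) (hc : Commute b w) : Commute b a := by
  have hexp : ∀ e ∈ Subgroup.zpowers a, e ^ r = 1 := by
    rintro e ⟨j, rfl⟩
    show (a ^ j) ^ r = 1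
    rw [← zpow_natCast, ← zpow_mul, mul_comm, zpow_mul, zpow_natCast, ← ha, pow_orderOf_eq_one, one_zpow]
  obtain ⟨i, hi⟩ := Subgroup.mem_zpowers_iff.mp
    (mem_zpowers_swap (orderOf_eq_of_exponent hexp hwa hw) ha hwa)
  exact hi ▸ hc.zpow_right i

/-- The setting: `H` is a complement of the normal Sylow subgroup `N`, acting faithfully and
irreducibly; `K` carries `r` and `s`. -/
structure One (σ : Finset ℕ) (p q r s : ℕ) (N H K : Subgroup G) : Prop where
  quad : Quad G σ
  solv : Group.IsSolvable G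
  mem : p ∈ σ ∧ q ∈ σ ∧ r ∈ σ ∧ s ∈ σ
  dis : p ≠ q ∧ p ≠ r ∧ p ≠ s ∧ q ≠ r ∧ q ≠ s ∧ r ≠ s
  commN : IsMulCommutative N
  expN : ∀ n ∈ N, n ^ p = 1
  neN : N ≠ ⊥
  normN : H ≤ Subgroup.normalizer (N : Set G)
  faith : H ⊓ Subgroup.centralizer (N : Set G) = ⊥
  irr : ∀ T : Subgroup G, T ≤ H → H ≤ Subgroup.normalizer (T : Set G) → T ≠ ⊥ →
    N ⊓ Subgroup.centralizer (T : Set G) = ⊥
  copN : (Nat.card H).Coprime (Nat.card N)
  KH : K ≤ H
  idxr : ¬ r ∣ K.index
  idxs : ¬ s ∣ K.index
  primes : ∀ x : ℕ, x.Prime → x ∣ Nat.card K → x = r ∨ x = s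
  primesH : ∀ x : ℕ, x.Prime → x ∣ Nat.card H → x = q ∨ x = r ∨ x = s

namespace One

variable {σ : Finset ℕ} {p q r s : ℕ} {N H K : Subgroup G}

theorem swap (h : One σ p q r s N H K) : One σ p q s r N H K := by
  obtain ⟨hp, hq, hr, hs⟩ := h.mem
  obtain ⟨h1, h2, h3, h4, h5, h6⟩ := h.dis
  exact ⟨h.quad, h.solv, ⟨hp, hq, hs, hr⟩, ⟨h1, h3, h2, h5, h4, h6.symm⟩, h.commN, h.expN, h.neN, h.normN,
    h.faith, h.irr, h.copN, h.KH, h.idxs, h.idxr, fun x hx hd => (h.primes x hx hd).symm,
    fun x hx hd => (h.primesH x hx hd).imp_right Or.symm⟩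

/-- Two commuting elements of different prime order do not fix a common point. -/
theorem no_common (h : One σ p q r s N H K) {x y : ℕ} (hx : x ∈ σ) (hy : y ∈ σ) (hpx : p ≠ x)
    (hpy : p ≠ y) (hxy : x ≠ y) {e f n : G} (he : orderOf e = x) (hf : orderOf f = y) (hef : Commute e f)
    (hn : n ∈ N) (hn1 : n ≠ 1) (hne : Commute n e) (hnf : Commute n f) : False := by
  haveI : Fact p.Prime := ⟨h.quad.prime p h.mem.1⟩
  exact h.quad.triple p h.mem.1 x hx y hy hpx hxy hpy n e f (orderOf_of_mem h.expN hn hn1) he hf hne hnf hef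

theorem cop_pow (h : One σ p q r s N H K) {A : Subgroup G} (hexp : ∀ a ∈ A, a ^ q = 1) {n : ℕ}
    (hn : ¬ q ∣ n) : n.Coprime (Nat.card A) := by
  obtain ⟨hp, hq, hr, hs⟩ := h.mem
  haveI : Fact q.Prime := ⟨h.quad.prime q hq⟩
  obtain ⟨k, hk⟩ := IsPGroup.iff_card.mp (show IsPGroup q A from fun e =>
    ⟨1, Subtype.ext (by rw [pow_one, Subgroup.coe_pow, hexp e e.2, Subgroup.coe_one])⟩)
  rw [hk]
  exact (((h.quad.prime q hq).coprime_iff_not_dvd.mpr hn).symm).pow_right k

theorem not_dvd_q (h : One σ p q r s N H K) : ¬ q ∣ r ∧ ¬ q ∣ s := by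
  obtain ⟨hp, hq, hr, hs⟩ := h.mem
  obtain ⟨h1, h2, h3, h4, h5, h6⟩ := h.dis
  exact ⟨fun hd => h4 ((Nat.prime_dvd_prime_iff_eq (h.quad.prime q hq) (h.quad.prime r hr)).mp hd),
    fun hd => h5 ((Nat.prime_dvd_prime_iff_eq (h.quad.prime q hq) (h.quad.prime s hs)).mp hd)⟩

theorem not_centralizes (h : One σ p q r s N H K) {A : Subgroup G} (hAH : A ≤ H) (hA : A ≠ ⊥) :
    ¬ A ≤ Subgroup.centralizer (N : Set G) := fun hc => hA (by
  rw [eq_bot_iff, ← h.faith]; exact le_inf hAH hc)

theorem fpf_of_moved {A : Subgroup G} {b : G}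
    (hfix : A ⊓ Subgroup.centralizer (Subgroup.zpowers b : Set G) = ⊥) {c : G} (hc : c ∈ A)
    (hcom : Commute b c) : c = 1 :=
  Subgroup.mem_bot.mp (hfix ▸ Subgroup.mem_inf.mpr ⟨hc, mem_centralizer_zpowers hcom.symm⟩)

/-- Of two commuting elements of order `r` and `s`, the part moved by the first is centralized by
the second. -/
theorem moved_centralized (h : One σ p q r s N H K) {A : Subgroup G} (hAH : A ≤ H)
    (hHA : H ≤ Subgroup.normalizer (A : Set G)) [IsMulCommutative A] (hexp : ∀ a ∈ A, a ^ q = 1)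
    {b w : G} (hb : b ∈ K) (hbo : orderOf b = r) (hw : w ∈ K) (hwo : orderOf w = s) (hbw : Commute b w) :
    ⁅A, Subgroup.zpowers b⁆ ≤ Subgroup.centralizer (Subgroup.zpowers w : Set G) := by
  haveI := h.commN
  obtain ⟨hp, hq, hr, hs⟩ := h.mem
  obtain ⟨h1, h2, h3, h4, h5, h6⟩ := h.dis
  obtain ⟨hqr, hqs⟩ := h.not_dvd_q
  have hbA : Subgroup.zpowers b ≤ Subgroup.normalizer (A : Set G) := Subgroup.zpowers_le.mpr (hHA (h.KH hb))
  have hcb : (Nat.card (Subgroup.zpowers b)).Coprime (Nat.card A) := by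
    rw [Nat.card_zpowers, hbo]; exact h.cop_pow hexp hqr
  by_cases hb0 : Subgroup.zpowers b ≤ Subgroup.centralizer (A : Set G)
  · have : ⁅A, Subgroup.zpowers b⁆ = ⊥ := by
      rw [Subgroup.commutator_comm, Subgroup.commutator_eq_bot_iff_le_centralizer]; exact hb0
    rw [this]; exact bot_le
  obtain ⟨hle, -, hfix, hn⟩ := moved hbA hcb hb0
  set A₁ := ⁅A, Subgroup.zpowers b⁆ with hA₁
  have hwA₁ : Subgroup.zpowers w ≤ Subgroup.normalizer (A₁ : Set G) :=
    Subgroup.zpowers_le.mpr (Coprime.le_normalizer_commutator (A := Subgroup.zpowers w)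
      (Subgroup.zpowers_le.mpr (hHA (h.KH hw)))
      (Subgroup.zpowers_le.mpr (Subgroup.centralizer_le_normalizer _ (mem_centralizer_zpowers hbw.symm)))
      (Subgroup.mem_zpowers w))
  haveI := isMulCommutative_of_le hle
  by_contra hnot
  have hw0 : ¬ Subgroup.zpowers w ≤ Subgroup.centralizer (A₁ : Set G) := fun hc => hnot (by
    intro a ha y hy
    exact (hc hy a ha).symm)
  have hcw : (Nat.card (Subgroup.zpowers w)).Coprime (Nat.card A₁) := by
    rw [Nat.card_zpowers, hwo]
    exact (h.cop_pow hexp hqs).coprime_dvd_right (Subgroup.card_dvd_of_le hle)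
  obtain ⟨hle', hne', hfix', hn'⟩ := moved hwA₁ hcw hw0
  set A' := ⁅A₁, Subgroup.zpowers w⁆ with hA'
  have hA'H : A' ≤ H := (hle'.trans hle).trans hAH
  have hbn : b ∈ Subgroup.normalizer (A' : Set G) :=
    Coprime.le_normalizer_commutator (A := Subgroup.zpowers b) hn
      (Subgroup.zpowers_le.mpr (Subgroup.centralizer_le_normalizer _ (mem_centralizer_zpowers hbw)))
      (Subgroup.mem_zpowers b)
  have hcopA' : (Nat.card A').Coprime (Nat.card N) :=
    h.copN.coprime_dvd_left (Subgroup.card_dvd_of_le hA'H)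
  obtain ⟨hUle, hU, hUfix, hUn⟩ := moved (hA'H.trans h.normN) hcopA' (h.not_centralizes hA'H hne')
  haveI := isMulCommutative_of_le hUle
  set U := ⁅N, A'⁆ with hUdef
  have hyU : b * w ∈ Subgroup.normalizer (U : Set G) :=
    mul_mem (Coprime.le_normalizer_commutator (A := Subgroup.zpowers b)
        (Subgroup.zpowers_le.mpr (h.normN (h.KH hb))) (Subgroup.zpowers_le.mpr hbn) (Subgroup.mem_zpowers b))
      (Coprime.le_normalizer_commutator (A := Subgroup.zpowers w)
        (Subgroup.zpowers_le.mpr (h.normN (h.KH hw))) hn' (Subgroup.mem_zpowers w))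
  have hrp := h.quad.prime r hr
  have hsp := h.quad.prime s hs
  haveI : Fact r.Prime := ⟨hrp⟩
  haveI : Fact s.Prime := ⟨hsp⟩
  have hyo : orderOf (b * w) = r * s := by
    rw [hbw.orderOf_mul_eq_mul_orderOf_of_coprime
      (by rw [hbo, hwo]; exact (Nat.coprime_primes hrp hsp).mpr h6), hbo, hwo]
  have hf := exists_fixed hU hUn hyU (mul_mem hbn (hn' (Subgroup.mem_zpowers w)))
    (hcopA'.symm.coprime_dvd_left (Subgroup.card_dvd_of_le hUle)) hUfix
    (by
      rw [hyo]
      exact ((h.cop_pow hexp hqr).coprime_dvd_right (Subgroup.card_dvd_of_le (hle'.trans hle))).mul_left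
        ((h.cop_pow hexp hqs).coprime_dvd_right (Subgroup.card_dvd_of_le (hle'.trans hle))))
    fun c hc i hi hci => by
      suffices c = 1 by rw [this]; exact one_mem _
      by_cases hri : r ∣ i
      · have hwi : (b * w) ^ i = w ^ i := by
          rw [hbw.mul_pow, show b ^ i = 1 from orderOf_dvd_iff_pow_eq_one.mp (hbo ▸ hri), one_mul]
        rw [hwi] at hi hci
        exact fpf_of_moved hfix' hc
          (commute_of_generator hwo hi (Subgroup.pow_mem _ (Subgroup.mem_zpowers w) i) hci.symm).symm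
      · have hbi : ((b * w) ^ i) ^ s = b ^ (i * s) := by
          rw [← pow_mul, hbw.mul_pow, show w ^ (i * s) = 1 from
            orderOf_dvd_iff_pow_eq_one.mp (hwo ▸ dvd_mul_left s i), mul_one]
        have hne : b ^ (i * s) ≠ 1 := fun e => by
          rcases hrp.dvd_mul.mp (hbo ▸ orderOf_dvd_iff_pow_eq_one.mpr e) with h' | h'
          · exact hri h'
          · exact h6 ((Nat.prime_dvd_prime_iff_eq hrp hsp).mp h')
        exact fpf_of_moved hfix (hle' hc) (commute_of_generator hbo hne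
          (Subgroup.pow_mem _ (Subgroup.mem_zpowers b) _) (hbi ▸ hci.pow_left s).symm).symm
  obtain ⟨n, hn0, hn1, hny⟩ := exists_mem_fx hf
  have hnb : Commute n b := by
    have h7 : Commute n ((b * w) ^ s) := hny.pow_right s
    rw [hbw.mul_pow, show w ^ s = 1 from hwo ▸ pow_orderOf_eq_one w, mul_one] at h7
    refine commute_of_generator hbo (fun e => ?_) (Subgroup.pow_mem _ (Subgroup.mem_zpowers b) _) h7
    exact h6 ((Nat.prime_dvd_prime_iff_eq hrp hsp).mp (hbo ▸ orderOf_dvd_iff_pow_eq_one.mpr e))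
  have hnw : Commute n w := by
    have h7 : Commute n ((b * w) ^ r) := hny.pow_right r
    rw [hbw.mul_pow, show b ^ r = 1 from hbo ▸ pow_orderOf_eq_one b, one_mul] at h7
    refine commute_of_generator hwo (fun e => ?_) (Subgroup.pow_mem _ (Subgroup.mem_zpowers w) _) h7
    exact h6 ((Nat.prime_dvd_prime_iff_eq hsp hrp).mp (hwo ▸ orderOf_dvd_iff_pow_eq_one.mpr e)).symm
  exact h.no_common hr hs h2 h3 h6 hbo hwo hbw (hUle hn0) hn1 hnb hnw

/-- Of two commuting elements of order `r` and `s`, one centralizes a normal elementary subgroup. -/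
theorem one_in (h : One σ p q r s N H K) {A : Subgroup G} (hAH : A ≤ H)
    (hHA : H ≤ Subgroup.normalizer (A : Set G)) [IsMulCommutative A] (hexp : ∀ a ∈ A, a ^ q = 1)
    {b w : G} (hb : b ∈ K) (hbo : orderOf b = r) (hw : w ∈ K) (hwo : orderOf w = s) (hbw : Commute b w) :
    b ∈ Subgroup.centralizer (A : Set G) ∨ w ∈ Subgroup.centralizer (A : Set G) := by
  haveI := h.commN
  obtain ⟨hp, hq, hr, hs⟩ := h.mem
  obtain ⟨h1, h2, h3, h4, h5, h6⟩ := h.dis
  obtain ⟨hqr, hqs⟩ := h.not_dvd_q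
  by_contra hno
  push Not at hno
  have hbA : Subgroup.zpowers b ≤ Subgroup.normalizer (A : Set G) := Subgroup.zpowers_le.mpr (hHA (h.KH hb))
  have hwA : Subgroup.zpowers w ≤ Subgroup.normalizer (A : Set G) := Subgroup.zpowers_le.mpr (hHA (h.KH hw))
  obtain ⟨hle, hne, hfix, hn⟩ := moved hbA (by rw [Nat.card_zpowers, hbo]; exact h.cop_pow hexp hqr)
    fun hc => hno.1 (hc (Subgroup.mem_zpowers b))
  obtain ⟨hle3, hne3, hfix3, hn3⟩ := moved hwA (by rw [Nat.card_zpowers, hwo]; exact h.cop_pow hexp hqs)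
    fun hc => hno.2 (hc (Subgroup.mem_zpowers w))
  have hc1 := h.moved_centralized hAH hHA hexp hb hbo hw hwo hbw
  have hc3 := h.swap.moved_centralized hAH hHA hexp hw hwo hb hbo hbw.symm
  set A₁ := ⁅A, Subgroup.zpowers b⁆ with hA₁
  set A₃ := ⁅A, Subgroup.zpowers w⁆ with hA₃
  have hA₁H : A₁ ≤ H := hle.trans hAH
  have hcop : ∀ B : Subgroup G, B ≤ H → (Nat.card B).Coprime (Nat.card N) := fun B hB =>
    h.copN.coprime_dvd_left (Subgroup.card_dvd_of_le hB)
  obtain ⟨hUle, hU, hUfix, hUn⟩ := moved (hA₁H.trans h.normN) (hcop _ hA₁H) (h.not_centralizes hA₁H hne)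
  haveI := isMulCommutative_of_le hUle
  set U := ⁅N, A₁⁆ with hUdef
  have hbU : b ∈ Subgroup.normalizer (U : Set G) := Coprime.le_normalizer_commutator
    (A := Subgroup.zpowers b) (Subgroup.zpowers_le.mpr (h.normN (h.KH hb))) hn (Subgroup.mem_zpowers b)
  have hwA₁ : ∀ a ∈ A₁, Commute a w := fun a ha => (hc1 ha w (Subgroup.mem_zpowers w)).symm
  have hbA₃ : ∀ a ∈ A₃, Commute a b := fun a ha => (hc3 ha b (Subgroup.mem_zpowers b)).symm
  have hwU : w ∈ Subgroup.normalizer (U : Set G) := Coprime.le_normalizer_commutator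
    (A := Subgroup.zpowers w) (Subgroup.zpowers_le.mpr (h.normN (h.KH hw)))
    (Subgroup.zpowers_le.mpr (Subgroup.centralizer_le_normalizer _ fun a ha => hwA₁ a ha))
    (Subgroup.mem_zpowers w)
  have hA₃U : A₃ ≤ Subgroup.normalizer (U : Set G) := Coprime.le_normalizer_commutator
    ((hle3.trans hAH).trans h.normN) (fun x hx => Subgroup.centralizer_le_normalizer _
      fun y hy => (commute_of_mem (hle hy) (hle3 hx)).eq)
  obtain ⟨⟨a₃, ha₃⟩, ha₃1⟩ := Subgroup.ne_bot_iff_exists_ne_one.mp hne3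
  have hfpfb : ∀ c ∈ A₁, Commute b c → c ∈ Subgroup.centralizer (U : Set G) := fun c hc hbc => by
    rw [fpf_of_moved hfix hc hbc]; exact one_mem _
  by_cases hU3 : U ⊓ Subgroup.centralizer (A₃ : Set G) = ⊥
  · -- `w` fixes a point, and `b` one among them
    haveI : Fact s.Prime := ⟨h.quad.prime s hs⟩
    have hf := exists_fixed_prime (W := A₃) (h.quad.prime s hs) hwo hU hA₃U hwU (hn3 (Subgroup.mem_zpowers w))
      ((hcop _ (hle3.trans hAH)).symm.coprime_dvd_left (Subgroup.card_dvd_of_le hUle)) hU3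
      ((h.cop_pow hexp hqs).coprime_dvd_right (Subgroup.card_dvd_of_le hle3))
      fun c hc hwc => by rw [fpf_of_moved hfix3 hc hwc]; exact one_mem _
    haveI := isMulCommutative_of_le (fx_le U w)
    have hf' := exists_fixed_prime (W := A₁) (h.quad.prime r hr) hbo hf
      (fun a ha => mem_normalizer_fx (hUn ha) (hwA₁ a ha)) (mem_normalizer_fx hbU hbw)
      (hn (Subgroup.mem_zpowers b))
      ((hcop _ hA₁H).symm.coprime_dvd_left (Subgroup.card_dvd_of_le ((fx_le U w).trans hUle)))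
      (le_bot_iff.mp ((inf_le_inf_right _ (fx_le U w)).trans hUfix.le))
      ((h.cop_pow hexp hqr).coprime_dvd_right (Subgroup.card_dvd_of_le hle))
      fun c hc hbc => by rw [fpf_of_moved hfix hc hbc]; exact one_mem _
    obtain ⟨n, hn', hn1, hnb⟩ := exists_mem_fx hf'
    obtain ⟨hnU, hnw⟩ := mem_fx.mp hn'
    exact h.no_common hr hs h2 h3 h6 hbo hwo hbw (hUle hnU) hn1 hnb hnw
  · -- `b` fixes a point centralized by `A₃`
    haveI := isMulCommutative_of_le (inf_le_left : U ⊓ Subgroup.centralizer (A₃ : Set G) ≤ U)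
    haveI : Fact r.Prime := ⟨h.quad.prime r hr⟩
    haveI : Fact q.Prime := ⟨h.quad.prime q hq⟩
    have hf' := exists_fixed_prime (W := A₁) (v := b) (h.quad.prime r hr) hbo hU3
      (Coprime.le_normalizer_inf_of_le hUn (fun x hx => mem_normalizer_centralizer
        (Subgroup.centralizer_le_normalizer _ fun y hy => (commute_of_mem (hle3 hy) (hle hx)).eq)))
      (Coprime.le_normalizer_inf_of_le (A := Subgroup.zpowers b) (Subgroup.zpowers_le.mpr hbU)
        (Subgroup.zpowers_le.mpr (mem_normalizer_centralizer (Subgroup.centralizer_le_normalizer _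
          fun y hy => hbA₃ y hy))) (Subgroup.mem_zpowers b))
      (hn (Subgroup.mem_zpowers b))
      ((hcop _ hA₁H).symm.coprime_dvd_left (Subgroup.card_dvd_of_le (inf_le_left.trans hUle)))
      (le_bot_iff.mp ((inf_le_inf_right _ inf_le_left).trans hUfix.le))
      ((h.cop_pow hexp hqr).coprime_dvd_right (Subgroup.card_dvd_of_le hle))
      fun c hc hbc => by rw [fpf_of_moved hfix hc hbc]; exact one_mem _
    obtain ⟨n, hn', hn1, hnb⟩ := exists_mem_fx hf'
    obtain ⟨hnU, hn3'⟩ := Subgroup.mem_inf.mp hn'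
    exact h.no_common hq hr h1 h2 h4
      (orderOf_eq_of_exponent hexp (hle3 ha₃) fun e => ha₃1 (Subtype.ext e)) hbo (hbA₃ a₃ ha₃)
      (hUle hnU) hn1 (commute_of_mem_centralizer hn3' ha₃).symm hnb

/-- Commuting elements of orders `r` and `s` inside `K`. -/
theorem exists_commuting (h : One σ p q r s N H K) :
    ∃ b ∈ K, ∃ w ∈ K, orderOf b = r ∧ orderOf w = s ∧ Commute b w := by
  haveI := h.solv
  obtain ⟨hp, hq, hr, hs⟩ := h.mem
  obtain ⟨x, y, hx, hy, hxy⟩ := h.quad.pair r hr s hs h.dis.2.2.2.2.2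
  have hrp := h.quad.prime r hr
  have hsp := h.quad.prime s hs
  have ho : orderOf (x * y) = r * s := by
    rw [hxy.orderOf_mul_eq_mul_orderOf_of_coprime
      (by rw [hx, hy]; exact (Nat.coprime_primes hrp hsp).mpr h.dis.2.2.2.2.2), hx, hy]
  have hcop : (Nat.card K).Coprime K.index := Nat.coprime_of_dvd fun z hz hzK hzi => by
    rcases h.primes z hz hzK with rfl | rfl
    · exact h.idxr hzi
    · exact h.idxs hzi
  have hz : (Nat.card (Subgroup.zpowers (x * y))).Coprime K.index := by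
    rw [Nat.card_zpowers, ho]
    exact (hrp.coprime_iff_not_dvd.mpr h.idxr).mul_left (hsp.coprime_iff_not_dvd.mpr h.idxs)
  obtain ⟨g, hg⟩ := Hall.exists_conj_le (K.card_mul_index).symm hcop rfl hz
  have hmem : g⁻¹ * (x * y) * g ∈ K := by
    have := hg (Subgroup.mem_zpowers (x * y))
    rw [Coprime.mem_conj_smul_iff] at this
    exact this
  have hpow : ∀ n : ℕ, g⁻¹ * (x * y) ^ n * g ∈ K := fun n => by
    have := pow_mem hmem n
    rwa [show (g⁻¹ * (x * y) * g) ^ n = g⁻¹ * (x * y) ^ n * g by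
      simpa using (conj_pow (a := g⁻¹) (b := x * y) (i := n))] at this
  refine ⟨_, hpow s, _, hpow r, ?_, ?_, ?_⟩
  · have := orderOf_conj g⁻¹ ((x * y) ^ s)
    rw [inv_inv] at this
    rw [this, orderOf_pow_of_dvd hsp.ne_zero (ho ▸ dvd_mul_left s r), ho, Nat.mul_div_cancel _ hsp.pos]
  · have := orderOf_conj g⁻¹ ((x * y) ^ r)
    rw [inv_inv] at this
    rw [this, orderOf_pow_of_dvd hrp.ne_zero (ho ▸ dvd_mul_right r s), ho,
      Nat.mul_div_cancel_left _ hrp.pos]
  · have := exists_commute_conj (g := g⁻¹) ((Commute.refl (x * y)).pow_pow s r)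
    rwa [inv_inv] at this

set_option maxHeartbeats 1600000 in
/-- A noncyclic normal elementary subgroup with `t` centralizing it and `w`, of order `s`, moving it
is impossible. -/
theorem noncyclic_aux (h : One σ p q r s N H K) {A : Subgroup G} (hAH : A ≤ H)
    (hHA : H ≤ Subgroup.normalizer (A : Set G)) [IsMulCommutative A] (hexp : ∀ a ∈ A, a ^ q = 1)
    (hnc : ¬ IsCyclic A) {t w : G} (ht : t ∈ K) (hto : orderOf t = r)
    (htA : t ∈ Subgroup.centralizer (A : Set G)) (hw : w ∈ K) (hwo : orderOf w = s) (htw : Commute t w)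
    (hwA : w ∉ Subgroup.centralizer (A : Set G)) : False := by
  haveI := h.solv
  haveI := h.commN
  obtain ⟨hp, hq, hr, hs⟩ := h.mem
  obtain ⟨h1, h2, h3, h4, h5, h6⟩ := h.dis
  obtain ⟨hqr, hqs⟩ := h.not_dvd_q
  have hrp := h.quad.prime r hr
  have hsp := h.quad.prime s hs
  haveI : Fact q.Prime := ⟨h.quad.prime q hq⟩
  haveI : Fact r.Prime := ⟨hrp⟩
  haveI : Fact s.Prime := ⟨hsp⟩
  have hAne : A ≠ ⊥ := fun e => hnc (e ▸ inferInstance)
  obtain ⟨⟨a₀, ha₀⟩, ha₀1⟩ := Subgroup.ne_bot_iff_exists_ne_one.mp hAne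
  have ha₀' : a₀ ≠ 1 := fun e => ha₀1 (Subtype.ext e)
  have hKA : ∀ x ∈ K, x ∈ Subgroup.normalizer (Subgroup.centralizer (A : Set G) : Set G) :=
    fun x hx => mem_normalizer_centralizer (hHA (h.KH hx))
  -- elements centralizing `A` fix nothing
  have hD : ∀ d ∈ K, d ∈ Subgroup.centralizer (A : Set G) → ∀ x : ℕ, x ∈ σ → p ≠ x → q ≠ x →
      orderOf d = x → fx N d = ⊥ := by
    intro d hd hdA x hx hpx hqx hdo
    by_contra hne
    haveI := isMulCommutative_of_le (fx_le N d)
    have hcom : ∀ a ∈ A, Commute a d := fun a ha => commute_of_mem_centralizer hdA ha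
    obtain ⟨a, ha, ha1, haf⟩ := exists_fixed_of_noncyclic (A := A) hne
      (fun a ha => mem_normalizer_fx (h.normN (hAH ha)) (hcom a ha)) hnc
    obtain ⟨n, hn, hn1, hna⟩ := exists_mem_fx haf
    obtain ⟨hnN, hnd⟩ := mem_fx.mp hn
    exact h.no_common hq hx h1 hpx hqx (orderOf_eq_of_exponent hexp ha ha1) hdo (hcom a ha) hnN hn1 hna hnd
  have huniq : ∀ z : ℕ, z ∈ σ → p ≠ z → q ≠ z → ∀ x ∈ K, ∀ y ∈ K, orderOf x = z → orderOf y = z →
      x ∈ Subgroup.centralizer (A : Set G) → y ∈ Subgroup.centralizer (A : Set G) → Commute x y →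
      x ∈ Subgroup.zpowers y := by
    intro z hz hpz hqz x hx y hy hxo hyo hxA hyA hxy
    haveI : Fact z.Prime := ⟨h.quad.prime z hz⟩
    by_contra hne
    obtain ⟨e, he, heo, hef⟩ := exists_fixed_of_pair hxo hyo hxy hne h.neN (h.normN (h.KH hx))
      (h.normN (h.KH hy))
    have hle : Subgroup.closure ({x, y} : Set G) ≤ K ⊓ Subgroup.centralizer (A : Set G) := by
      rw [Subgroup.closure_le]
      rintro c (rfl | rfl)
      · exact ⟨hx, hxA⟩
      · exact ⟨hy, hyA⟩
    exact hef (hD e (hle he).1 (hle he).2 z hz hpz hqz heo)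
  have hcyc : ∀ z : ℕ, z ∈ σ → p ≠ z → q ≠ z → ∀ T : Subgroup G, T ≤ K →
      T ≤ Subgroup.centralizer (A : Set G) → IsMulCommutative T → (∀ e ∈ T, e ^ z = 1) → IsCyclic T := by
    intro z hz hpz hqz T hTK hTA hTc hTe
    haveI := hTc
    by_contra hTn
    obtain ⟨z', hz', x, hx, y, hy, hxp, hyp, hy1, hxy⟩ := Coprime.exists_pair_of_not_isCyclic T hTn
    haveI : Fact z.Prime := ⟨h.quad.prime z hz⟩
    have hx1 : x ≠ 1 := fun e => hxy (e ▸ one_mem _)
    exact hxy (huniq z hz hpz hqz x (hTK hx) y (hTK hy) (orderOf_eq_of_exponent hTe hx hx1)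
      (orderOf_eq_of_exponent hTe hy hy1) (hTA hx) (hTA hy) (commute_of_mem hx hy))
  -- `t` is central in a full `r`-subgroup
  obtain ⟨R, htR, hRK, hR⟩ := exists_full h.idxr (Subgroup.zpowers_le.mpr ht) (isPGroup_zpowers hto)
  have htR' : t ∈ R := htR (Subgroup.mem_zpowers t)
  have huR : ∀ x ∈ R, orderOf x = r → x ∈ Subgroup.centralizer (A : Set G) → x ∈ Subgroup.zpowers t := by
    intro x hx hxo hxA
    obtain ⟨c, hc, hco, hcc⟩ := exists_central (P := R ⊓ Subgroup.centralizer (A : Set G))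
      (hR.1.to_le inf_le_left) (Subgroup.mem_inf.mpr ⟨htR', htA⟩) (fun e => by
        rw [e, orderOf_one] at hto; exact hrp.ne_one hto.symm)
    have h7 := huniq r hr h2 h4 x (hRK hx) c (hRK hc.1) hxo hco hxA hc.2
      (hcc x (Subgroup.mem_inf.mpr ⟨hx, hxA⟩)).symm
    have h8 := huniq r hr h2 h4 t ht c (hRK hc.1) hto hco htA hc.2
      (hcc t (Subgroup.mem_inf.mpr ⟨htR', htA⟩)).symm
    exact (Subgroup.zpowers_le.mpr (mem_zpowers_swap hto hco h8)) h7
  have htRc : ∀ x ∈ R, Commute x t := by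
    intro x hx
    obtain ⟨k, hk⟩ := (IsPGroup.iff_orderOf.mp hR.1) ⟨x, hx⟩
    refine commute_of_line hto (huR _ (R.mul_mem (R.mul_mem hx htR') (R.inv_mem hx)) (by rw [orderOf_conj, hto])
      ((Subgroup.mem_normalizer_iff.mp (hKA x (hRK hx)) t).mp htA)) (k := k) ?_
    rw [← hk, ← Subgroup.orderOf_coe]
  obtain ⟨b, hb, hbo, hbt⟩ := h.quad.exists_pair_of_central hr hR hto
  have hbA : b ∉ Subgroup.centralizer (A : Set G) := fun hc => hbt (huR b hb hbo hc)
  set C := K ⊓ Subgroup.centralizer ({t} : Set G) with hC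
  have hmemC : ∀ {x : G}, x ∈ C ↔ x ∈ K ∧ Commute x t := fun {x} => by
    rw [hC, Subgroup.mem_inf, Subgroup.mem_centralizer_singleton_iff]; rfl
  have hRC : R ≤ C := fun x hx => hmemC.mpr ⟨hRK hx, htRc x hx⟩
  have htw' : Commute w t := htw.symm
  have hwC : w ∈ C := hmemC.mpr ⟨hw, htw'⟩
  have hCs : ∀ x ∈ C, orderOf x = s → (∀ a ∈ A, Commute a x → a = 1) ∧ x ∉ Subgroup.centralizer (A : Set G) := by
    intro x hx hxo
    have hxt := (hmemC.mp hx).2
    have hfree : ∀ a ∈ A, Commute a x → a = 1 := fun a ha hax => by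
      by_contra ha1
      exact h.quad.triple q hq r hr s hs h4 h6 h5 a t x (orderOf_eq_of_exponent hexp ha ha1) hto hxo
        (commute_of_mem_centralizer htA ha) hax hxt.symm
    exact ⟨hfree, fun hc => ha₀' (hfree a₀ ha₀ (commute_of_mem_centralizer hc ha₀))⟩
  have hsemi : ∀ x ∈ C, ∀ y ∈ C, orderOf x = s → orderOf y = s → Commute x y → x ∈ Subgroup.zpowers y := by
    intro x hx y hy hxo hyo hxy
    by_contra hne
    obtain ⟨e, he, heo, hef⟩ := exists_fixed_of_pair hxo hyo hxy hne hAne (hHA (h.KH hx.1)) (hHA (h.KH hy.1))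
    have heC : e ∈ C := (Subgroup.closure_le _).mpr (by rintro c (rfl | rfl) <;> assumption) he
    obtain ⟨a, ha, ha1, hae⟩ := exists_mem_fx hef
    exact ha1 ((hCs e heC heo).1 a ha hae)
  -- the normal line inside the centralizer of `A`
  have hline : (K ≤ Subgroup.normalizer (Subgroup.zpowers t : Set G)) ∨
      ∃ u ∈ K, orderOf u = s ∧ u ∈ Subgroup.centralizer (A : Set G) ∧
        K ≤ Subgroup.normalizer (Subgroup.zpowers u : Set G) := by
    obtain ⟨T, x, hTM, hT, hKT, -, hx, hxd, hTc, hTe⟩ := exists_minimal (K := K)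
      (M := K ⊓ Subgroup.centralizer (A : Set G))
      (Coprime.le_normalizer_inf_of_le Subgroup.le_normalizer hKA)
      (fun e => by
        have : t ∈ K ⊓ Subgroup.centralizer (A : Set G) := ⟨ht, htA⟩
        rw [e, Subgroup.mem_bot] at this
        rw [this, orderOf_one] at hto
        exact hrp.ne_one hto.symm)
    haveI := hTc
    haveI := Fact.mk hx
    rcases h.primes x hx (hxd.trans (Subgroup.card_dvd_of_le (hTM.trans inf_le_left))) with rfl | rfl
    · haveI := hcyc x hr h2 h4 T (hTM.trans inf_le_left) (hTM.trans inf_le_right) hTc hTe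
      obtain ⟨t', ht'o, rfl⟩ := eq_zpowers_of_cyclic hT hTe
      have hsup : IsPGroup x ↥(Subgroup.zpowers t' ⊔ R) :=
        (isPGroup_zpowers ht'o).to_sup_of_normal_left' hR.1 (hRK.trans hKT)
      have hle : Subgroup.zpowers t' ≤ R := le_sup_left.trans
        (Sylow.is_maximal' (hR.1.toSylow hR.2) hsup le_sup_right).le
      have ht' := hTM (Subgroup.mem_zpowers t')
      refine Or.inl ?_
      rwa [← Subgroup.eq_of_le_of_card_ge (Subgroup.zpowers_le.mpr
        (huR t' (hle (Subgroup.mem_zpowers t')) ht'o ht'.2)) (by rw [Nat.card_zpowers, Nat.card_zpowers, ht'o, hto])]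
    · haveI := hcyc x hs h3 h5 T (hTM.trans inf_le_left) (hTM.trans inf_le_right) hTc hTe
      obtain ⟨u, huo, rfl⟩ := eq_zpowers_of_cyclic hT hTe
      exact Or.inr ⟨u, (hTM (Subgroup.mem_zpowers u)).1, huo, (hTM (Subgroup.mem_zpowers u)).2, hKT⟩
  -- `w`-invariant `r`-subgroups centralizing `A`
  have hL0 : ∀ L : Subgroup G, IsPGroup r L → L ≤ C → L ≤ Subgroup.centralizer (A : Set G) →
      w ∈ Subgroup.normalizer (L : Set G) → w ∈ Subgroup.centralizer (L : Set G) := by
    intro L hLp hLC hLA hwL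
    have hfix : ∀ x ∈ L, orderOf x = r → Commute w x := fun x hx hxo => by
      obtain ⟨i, hi⟩ := Subgroup.mem_zpowers_iff.mp
        (huniq r hr h2 h4 x (hLC hx).1 t ht hxo hto (hLA hx) htA (hmemC.mp (hLC hx)).2)
      exact hi ▸ htw'.zpow_right i
    rcases hline with hKt | ⟨u, hu, huo, huA, hKu⟩
    · have hr2 : r ≠ 2 := by
        intro hr2
        obtain ⟨P, -, hPK, hP⟩ := exists_full (Y := (⊥ : Subgroup G)) h.idxs bot_le IsPGroup.of_bot
        obtain ⟨x, hx, y, hy, hxo, hyo, hxy, hne⟩ := h.quad.exists_indep hs hP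
        have hall : ∀ z ∈ K, z ∈ C := fun z hz => hmemC.mpr ⟨hz, by
          have h7 := (Subgroup.mem_normalizer_iff.mp (hKt hz) t).mp (Subgroup.mem_zpowers t)
          have h8 : z * t * z⁻¹ = t := by
            obtain ⟨i, hi⟩ := Subgroup.mem_zpowers_iff.mp h7
            rcases Int.even_or_odd i with ⟨j, hj⟩ | ⟨j, hj⟩
            · exfalso
              have : z * t * z⁻¹ = 1 := by
                rw [← hi, hj, ← two_mul, zpow_mul, zpow_ofNat, ← hr2, ← hto, pow_orderOf_eq_one, one_zpow]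
              rw [mul_inv_eq_one, mul_eq_left] at this
              rw [this, orderOf_one] at hto
              exact hrp.ne_one hto.symm
            · rw [← hi, hj, zpow_add, zpow_mul, zpow_ofNat, ← hr2, ← hto, pow_orderOf_eq_one, one_zpow,
                one_mul, zpow_one]
          exact mul_inv_eq_iff_eq_mul.mp h8⟩
        exact hne (hsemi x (hall x (hPK hx)) y (hall y (hPK hy)) hxo hyo hxy)
      have hn : Subgroup.zpowers w ≤ Subgroup.normalizer (L : Set G) := Subgroup.zpowers_le.mpr hwL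
      set φ := Coprime.conjAct hn ⟨w, Subgroup.mem_zpowers w⟩ with hφ
      have hord : ¬ r ∣ orderOf φ := fun hd => by
        have h7 : orderOf φ ∣ s := hwo ▸ (Subgroup.orderOf_coe (⟨w, Subgroup.mem_zpowers w⟩ :
          Subgroup.zpowers w)) ▸ orderOf_map_dvd (Coprime.conjAct hn) _
        exact h6 ((Nat.prime_dvd_prime_iff_eq hrp hsp).mp (hd.trans h7))
      have h1' := OddOmega.eq_one_of_fixes_omega hr2 hLp φ hord fun x hx => Subtype.ext (by
        rw [hφ, Coprime.coe_conjAct]
        rcases eq_or_ne (x : G) 1 with hx1 | hx1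
        · rw [hx1]; group
        · rw [(hfix x x.2 (orderOf_eq_prime (by simpa using congrArg Subtype.val hx) hx1)).eq,
            mul_inv_cancel_right])
      intro x hx
      have h7 := congrArg (fun ψ : MulAut L => ((ψ ⟨x, hx⟩ : L) : G)) h1'
      simp only [MulAut.one_apply, hφ, Coprime.coe_conjAct] at h7
      exact (mul_inv_eq_iff_eq_mul.mp h7).symm
    · have hcu : ∀ x ∈ L, Commute x u → x = 1 := by
        intro x hx hxu
        by_contra hx1
        obtain ⟨k, hk⟩ := (IsPGroup.iff_orderOf.mp hLp) ⟨x, hx⟩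
        rw [← Subgroup.orderOf_coe] at hk
        have hk0 : k ≠ 0 := fun h0 => hx1 (orderOf_eq_one_iff.mp (by simpa [h0] using hk))
        obtain ⟨m, hm⟩ : ∃ m, (orderOf (x ^ m)) = r := by
          refine ⟨r ^ (k - 1), ?_⟩
          rw [orderOf_pow_of_dvd (pow_ne_zero _ hrp.ne_zero)
            (by rw [hk]; exact pow_dvd_pow r (by omega)), hk,
            Nat.pow_div (by omega) hrp.pos, show k - (k - 1) = 1 by omega, pow_one]
        exact h.quad.triple q hq r hr s hs h4 h6 h5 a₀ (x ^ m) u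
          (orderOf_eq_of_exponent hexp ha₀ ha₀') hm huo
          (commute_of_mem_centralizer (hLA (L.pow_mem hx m)) ha₀)
          (commute_of_mem_centralizer huA ha₀) (hxu.pow_left m)
      have hLc : IsMulCommutative L := by
        refine ⟨⟨fun a b => Subtype.ext ?_⟩⟩
        have key : ∀ g ∈ L, ∃ i : ℤ, ∀ j : ℤ, (g : G) * u ^ j * g⁻¹ = u ^ (i * j) := fun g hg => by
          obtain ⟨i, hi⟩ := Subgroup.mem_zpowers_iff.mp
            ((Subgroup.mem_normalizer_iff.mp (hKu (hLC hg).1) u).mp (Subgroup.mem_zpowers u))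
          exact ⟨i, fun j => by rw [← conj_zpow, ← hi, ← zpow_mul]⟩
        obtain ⟨i, hi⟩ := key a a.2
        obtain ⟨i', hi'⟩ := key b b.2
        obtain ⟨k₁, hk₁⟩ := key (b : G)⁻¹ (L.inv_mem b.2)
        obtain ⟨k₂, hk₂⟩ := key (a : G)⁻¹ (L.inv_mem a.2)
        have e1 : ((a : G) * b) * u * ((a : G) * b)⁻¹ = u ^ (i * i') := by
          calc ((a : G) * b) * u * ((a : G) * b)⁻¹ = a * (b * u ^ (1 : ℤ) * (b : G)⁻¹) * (a : G)⁻¹ := by group
            _ = u ^ (i * i') := by rw [hi', hi, mul_one]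
        have e2 : ((b : G) * a) * u * ((b : G) * a)⁻¹ = u ^ (i * i') := by
          calc ((b : G) * a) * u * ((b : G) * a)⁻¹ = b * (a * u ^ (1 : ℤ) * (a : G)⁻¹) * (b : G)⁻¹ := by group
            _ = u ^ (i * i') := by rw [hi, hi', mul_one, mul_comm]
        have e3 : Commute (((b : G) * a)⁻¹ * (a * b)) u := by
          show ((b : G) * a)⁻¹ * (a * b) * u = u * (((b : G) * a)⁻¹ * (a * b))
          calc ((b : G) * a)⁻¹ * (a * b) * u
              = ((b : G) * a)⁻¹ * ((a * b) * u * ((a : G) * b)⁻¹) * (a * b) := by group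
            _ = ((b : G) * a)⁻¹ * ((b * a) * u * ((b : G) * a)⁻¹) * (a * b) := by rw [e1, e2]
            _ = u * (((b : G) * a)⁻¹ * (a * b)) := by group
        exact (inv_mul_eq_one.mp (hcu _ (L.mul_mem (L.inv_mem (L.mul_mem b.2 a.2)) (L.mul_mem a.2 b.2)) e3)).symm
      haveI := hLc
      exact Coprime.le_centralizer_of_prime_order (Subgroup.zpowers_le.mpr hwL) (by
        obtain ⟨k, hk⟩ := IsPGroup.iff_card.mp hLp
        rw [Nat.card_zpowers, hwo, hk]
        exact ((Nat.coprime_primes hsp hrp).mpr h6.symm).pow_right k) (fun v hv hvp y hy => by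
          obtain ⟨k, hk⟩ := (IsPGroup.iff_orderOf.mp hLp) ⟨v, hv⟩
          rw [← Subgroup.orderOf_coe] at hk
          rw [show ((⟨v, hv⟩ : L) : G) = v from rfl] at hk
          have hvr : orderOf v = r := by
            rw [hk] at hvp ⊢
            rw [Nat.Prime.pow_eq_iff hvp |>.mp rfl |>.2, pow_one]
          obtain ⟨j, rfl⟩ := Subgroup.mem_zpowers_iff.mp hy
          exact ((hfix v hv hvr).zpow_left j).eq) (Subgroup.mem_zpowers w)
  -- all `w`-invariant `r`-subgroups of `C`
  have hL : ∀ L : Subgroup G, IsPGroup r L → L ≤ C → w ∈ Subgroup.normalizer (L : Set G) →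
      w ∈ Subgroup.centralizer (L : Set G) := by
    intro L
    induction L using WellFoundedLT.induction with
    | ind L ih =>
    intro hLp hLC hwL
    by_contra hnot
    set W := Subgroup.zpowers w with hW
    have hn : W ≤ Subgroup.normalizer (L : Set G) := Subgroup.zpowers_le.mpr hwL
    obtain ⟨k, hk⟩ := IsPGroup.iff_card.mp hLp
    have hcop : (Nat.card W).Coprime (Nat.card L) := by
      rw [hW, Nat.card_zpowers, hwo, hk]
      exact ((Nat.coprime_primes hsp hrp).mpr h6.symm).pow_right k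
    have hLs : Group.IsSolvable L := solvable_of_solvable_injective L.subtype_injective
    have hWL : ⁅L, W⁆ = L := by
      refine (Coprime.commutator_le_left_of_le_normalizer hn).eq_or_lt.resolve_right fun hlt => hnot ?_
      have hle := Coprime.commutator_le_left_of_le_normalizer hn
      have h7 := ih _ hlt (hLp.to_le hle) (hle.trans hLC)
        (Coprime.le_normalizer_commutator hn Subgroup.le_normalizer (Subgroup.mem_zpowers w))
      have h8 : ⁅⁅L, W⁆, W⁆ = ⊥ := by
        rw [Subgroup.commutator_eq_bot_iff_le_centralizer]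
        intro x hx
        rw [hW, centralizer_zpowers_eq, Subgroup.mem_centralizer_singleton_iff]
        exact (h7 x hx)
      rw [Coprime.commutator_commutator_eq hn hcop (Or.inr hLs)] at h8
      intro x hx
      exact (Subgroup.commutator_eq_bot_iff_le_centralizer.mp h8 hx w (Subgroup.mem_zpowers w)).symm
    by_cases hLA : L ≤ Subgroup.centralizer (A : Set G)
    · exact hnot (hL0 L hLp hLC hLA hwL)
    set P := (frattini L).map L.subtype with hP
    have hPL : P ≤ L := Subgroup.map_subtype_le _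
    haveI : Nontrivial L := (Subgroup.nontrivial_iff_ne_bot L).mpr fun e => hLA (e ▸ bot_le)
    have hPlt : P < L := by
      refine lt_of_le_of_ne hPL fun e => ?_
      have htop : frattini L = ⊤ := Subgroup.map_injective L.subtype_injective (by
        rw [← hP, e, ← MonoidHom.range_eq_map, L.range_subtype])
      obtain ⟨M, hM, -⟩ := (IsCoatomic.eq_top_or_exists_le_coatom (⊥ : Subgroup L)).resolve_left bot_ne_top
      exact hM.1 (top_le_iff.mp (htop.ge.trans (frattini_le_coatom hM)))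
    have hwP : W ≤ Subgroup.normalizer (P : Set G) := PSolvable.le_normalizer_map_of_characteristic hn _
    have hPc := ih P hPlt (hLp.to_le hPL) (hPL.trans hLC) (hwP (Subgroup.mem_zpowers w))
    obtain ⟨hcomm, hpowF⟩ := PSolvable.commutator_le_frattini hLp
    have hder : ∀ x ∈ L, ∀ y ∈ L, ⁅x, y⁆ ∈ P := fun x hx y hy =>
      ⟨_, hcomm (Subgroup.commutator_mem_commutator (Subgroup.mem_top (⟨x, hx⟩ : L))
        (Subgroup.mem_top (⟨y, hy⟩ : L))), map_commutatorElement L.subtype _ _⟩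
    have hpowP : ∀ x ∈ L, x ^ r ∈ P := fun x hx => ⟨_, hpowF ⟨x, hx⟩, rfl⟩
    have hLP : ∀ x ∈ L, ∀ y ∈ P, Commute x y := by
      have hPW : ⁅W, P⁆ = ⊥ := by
        rw [Subgroup.commutator_eq_bot_iff_le_centralizer, hW, Subgroup.zpowers_le]
        exact hPc
      have hPLle : ⁅P, L⁆ ≤ P := Subgroup.commutator_le.mpr fun a ha c hc => hder a (hPL ha) c hc
      have h2' : ⁅⁅P, L⁆, W⁆ = ⊥ := by
        rw [eq_bot_iff, ← hPW, Subgroup.commutator_comm W P]
        exact Subgroup.commutator_mono hPLle le_rfl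
      have h3' := Subgroup.commutator_commutator_eq_bot_of_rotate
        (H₁ := L) (H₂ := W) (H₃ := P) (by rw [hPW, Subgroup.commutator_bot_left]) h2'
      rw [hWL] at h3'
      intro x hx y hy
      exact ((Subgroup.commutator_eq_bot_iff_le_centralizer.mp h3') hx y hy).symm
    have hcpow : ∀ x ∈ L, ∀ y ∈ L, ⁅x, y⁆ ^ r = 1 := by
      intro x hx y hy
      have hcy : Commute ⁅x, y⁆ x := (hLP x hx _ (hder x hx y hy)).symm
      have hpw : ∀ m : ℕ, ⁅x ^ m, y⁆ = ⁅x, y⁆ ^ m := by
        intro m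
        induction m with
        | zero => simp
        | succ m ihm =>
          calc ⁅x ^ (m + 1), y⁆ = x ^ m * ⁅x, y⁆ * (x ^ m)⁻¹ * ⁅x ^ m, y⁆ := by
                simp only [commutatorElement_def, pow_succ]; group
            _ = ⁅x, y⁆ ^ (m + 1) := by
                rw [(hcy.pow_right m).symm.eq, mul_inv_cancel_right, ihm, pow_succ']
      rw [← hpw, commutatorElement_eq_one_iff_commute]
      exact (hLP y hy _ (hpowP x hx)).symm
    by_cases hder' : ∀ x ∈ L, ∀ y ∈ L, ⁅x, y⁆ ∈ Subgroup.centralizer (A : Set G)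
    · -- `w` has a fixed point on `A`
      obtain ⟨hUle, hU, hUfix, hUn⟩ := moved ((hLC.trans inf_le_left).trans (h.KH.trans hHA)) (by
        rw [hk]; exact (h.cop_pow hexp hqr).pow_left k) hLA
      haveI := isMulCommutative_of_le hUle
      have hfp : ∀ c ∈ L, Commute w c → c ∈ Subgroup.centralizer (A : Set G) := by
        intro c hc hwc
        set Z : Subgroup L := (Subgroup.centralizer (A : Set G)).subgroupOf L with hZ
        haveI : Z.Normal := ⟨fun z hz g => by
          rw [Subgroup.mem_subgroupOf] at hz ⊢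
          exact (Subgroup.mem_normalizer_iff.mp (hKA g (hLC g.2).1) _).mp hz⟩
        haveI : Std.Commutative fun a b : L ⧸ Z => a * b := ⟨fun a b => by
          induction a using QuotientGroup.induction_on with
          | H x =>
          induction b using QuotientGroup.induction_on with
          | H y =>
            rw [← QuotientGroup.mk_mul, ← QuotientGroup.mk_mul, QuotientGroup.eq, Subgroup.mem_subgroupOf]
            have h7 := hder' _ (L.inv_mem y.2) _ (L.inv_mem x.2)
            rw [commutatorElement_def, inv_inv, inv_inv] at h7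
            simpa [mul_assoc] using h7⟩
        letI : CommGroup (L ⧸ Z) :=
          { (inferInstance : Group (L ⧸ Z)) with mul_comm := Std.Commutative.comm }
        let φ : W →* MulAut L := Coprime.conjAct hn
        let ψ : L →* L ⧸ Z := QuotientGroup.mk' Z
        haveI := Fintype.ofFinite W
        let θ : L →* L ⧸ Z := ∏ a : W, ψ.comp (φ a).toMonoidHom
        have hθ : ∀ x, θ x = ∏ a : W, ψ (φ a x) := fun x => MonoidHom.finsetProd_apply _ Finset.univ x
        have hθinv : ∀ (a : W) (x : L), θ (φ a x) = θ x := fun a x => by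
          rw [hθ, hθ]
          exact Fintype.prod_equiv (Equiv.mulRight a) _ _ fun e => by simp [map_mul, MulAut.mul_apply]
        have hker : L ≤ θ.ker.map L.subtype := by
          conv_lhs => rw [← hWL]
          refine Subgroup.commutator_le.mpr fun x hx a ha => ?_
          refine ⟨⟨x, hx⟩ * φ ⟨a, ha⟩ ⟨x⁻¹, L.inv_mem hx⟩, ?_, ?_⟩
          · rw [SetLike.mem_coe, MonoidHom.mem_ker, map_mul, hθinv, ← map_mul]
            have : (⟨x, hx⟩ : L) * ⟨x⁻¹, L.inv_mem hx⟩ = 1 := Subtype.ext (mul_inv_cancel x)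
            rw [this, map_one]
          · show x * (a * x⁻¹ * a⁻¹) = ⁅x, a⁆
            rw [commutatorElement_def]; group
        obtain ⟨c', hc', hce⟩ := hker hc
        obtain rfl : c' = ⟨c, hc⟩ := Subtype.ext hce
        have h7 : ψ ⟨c, hc⟩ ^ Nat.card W = 1 := by
          rw [← MonoidHom.mem_ker.mp hc', hθ, Nat.card_eq_fintype_card, ← Finset.card_univ,
            ← Finset.prod_const]
          refine Finset.prod_congr rfl fun a _ => congrArg ψ (Subtype.ext ?_)
          obtain ⟨j, hj⟩ := Subgroup.mem_zpowers_iff.mp a.2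
          show c = (a : G) * c * (a : G)⁻¹
          rw [← hj, (hwc.zpow_left j).eq, mul_inv_cancel_right]
        have h8 : ψ ⟨c, hc⟩ = 1 := orderOf_eq_one_iff.mp (Nat.eq_one_of_dvd_coprimes hcop
          (orderOf_dvd_of_pow_eq_one h7)
          ((orderOf_map_dvd ψ _).trans (orderOf_dvd_natCard _)))
        exact Subgroup.mem_subgroupOf.mp ((QuotientGroup.eq_one_iff (N := Z) (⟨c, hc⟩ : L)).mp h8)
      have hf := exists_fixed_prime (W := L) hsp hwo hU hUn
        (Coprime.le_normalizer_commutator (A := W) (Subgroup.zpowers_le.mpr (hHA (h.KH hw))) hn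
          (Subgroup.mem_zpowers w)) hwL
        (by rw [hk]; exact (((h.cop_pow hexp hqr).pow_left k).symm).coprime_dvd_left (Subgroup.card_dvd_of_le hUle))
        hUfix (by rw [hk]; exact ((Nat.coprime_primes hsp hrp).mpr h6.symm).pow_right k)
        fun c hc hwc => Subgroup.centralizer_le hUle (hfp c hc hwc)
      obtain ⟨a, ha, ha1, haw⟩ := exists_mem_fx hf
      exact ha1 ((hCs w hwC hwo).1 a (hUle ha) haw)
    · push Not at hder'
      obtain ⟨x, hx, y, hy, hz⟩ := hder'
      have hzP := hder x hx y hy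
      have hzo : orderOf ⁅x, y⁆ = r := orderOf_eq_prime (hcpow x hx y hy) fun e => hz (e ▸ one_mem _)
      rcases h.one_in hAH hHA hexp (hLC (hPL hzP)).1 hzo hw hwo (hPc _ hzP) with h7 | h7
      · exact hz h7
      · exact hwA h7
  -- a normal subgroup of order `s` of `C`
  have hCsolv : Group.IsSolvable C := solvable_of_solvable_injective C.subtype_injective
  have hO : opOf s C ≠ ⊥ := by
    intro hbot
    have hF : Cfsg.fittingOf C ≤ Subgroup.centralizer ({w} : Set G) := by
      refine OddLocal.fittingOf_le_of fun x hx a ha => ?_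
      haveI := Fact.mk hx
      rcases eq_or_ne (opOf x C) ⊥ with he | he
      · rw [he, Subgroup.mem_bot] at ha
        rw [ha]; exact one_mem _
      obtain ⟨k, hk⟩ := IsPGroup.iff_card.mp (OddLocal.isPGroup_opOf hx C)
      have hk0 : k ≠ 0 := fun h0 => he (Subgroup.card_eq_one.mp (by rw [hk, h0, pow_zero]))
      rcases h.primes x hx ((hk ▸ dvd_pow_self x hk0).trans (Subgroup.card_dvd_of_le
        ((OddLocal.piCoreOf_le _ C).trans inf_le_left))) with rfl | rfl
      · rw [Subgroup.mem_centralizer_singleton_iff]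
        exact (hL _ (OddLocal.isPGroup_opOf hx C) (OddLocal.piCoreOf_le _ C)
          (OddLocal.le_normalizer_piCoreOf _ C hwC) a ha)
      · exact absurd hbot he
    have h7 := OddLocal.inf_centralizer_fittingOf_le hCsolv (Subgroup.mem_inf.mpr ⟨hwC, fun f hf =>
      Subgroup.mem_centralizer_singleton_iff.mp (hF hf)⟩)
    have h8 := OddLocal.mem_opOf_of_mem_fittingOf hsp h7 (k := 1)
      (by rw [pow_one, ← hwo]; exact pow_orderOf_eq_one w)
    rw [hbot, Subgroup.mem_bot] at h8
    rw [h8, orderOf_one] at hwo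
    exact hsp.ne_one hwo.symm
  obtain ⟨T', x', hT'O, hT', hCT', -, hx', hx'd, hT'c, hT'e⟩ :=
    exists_minimal (K := C) (OddLocal.le_normalizer_piCoreOf _ C) hO
  obtain ⟨k', hk'⟩ := IsPGroup.iff_card.mp (OddLocal.isPGroup_opOf hsp C)
  obtain rfl : x' = s := (Nat.prime_dvd_prime_iff_eq hx' hsp).mp
    (hx'.dvd_of_dvd_pow (hk' ▸ hx'd.trans (Subgroup.card_dvd_of_le hT'O)))
  haveI := hT'c
  haveI : IsCyclic T' := by
    by_contra hTn
    obtain ⟨z', hz', x, hx, y, hy, hxp, hyp, hy1, hxy⟩ := Coprime.exists_pair_of_not_isCyclic T' hTn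
    have hC' : T' ≤ C := hT'O.trans (OddLocal.piCoreOf_le _ C)
    exact hxy (hsemi x (hC' hx) y (hC' hy) (orderOf_eq_of_exponent hT'e hx fun e => hxy (e ▸ one_mem _))
      (orderOf_eq_of_exponent hT'e hy hy1) (commute_of_mem hx hy))
  obtain ⟨w', hw'o, rfl⟩ := eq_zpowers_of_cyclic hT' hT'e
  have hw'C : w' ∈ C := OddLocal.piCoreOf_le _ C (hT'O (Subgroup.mem_zpowers w'))
  have honly : ∀ x ∈ C, orderOf x = x' → x ∈ Subgroup.zpowers w' := fun x hx hxo =>
    hsemi x hx w' hw'C hxo hw'o (commute_of_line hw'o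
      ((Subgroup.mem_normalizer_iff.mp (hCT' hx) w').mp (Subgroup.mem_zpowers w')) (k := 1)
      (by rw [hxo, pow_one]))
  have hbw' : ∀ e ∈ C, orderOf e = r → e ∉ Subgroup.centralizer (A : Set G) → ¬ Commute e w' :=
    fun e he heo heA hc => (h.one_in hAH hHA hexp he.1 heo hw'C.1 hw'o hc).elim heA (hCs w' hw'C hw'o).2
  have hfe : ∀ e ∈ C, orderOf e = r → e ∉ Subgroup.centralizer (A : Set G) → fx A e ≠ ⊥ := by
    intro e he heo heA
    refine exists_fixed_prime (W := Subgroup.zpowers w') hrp heo hAne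
      (Subgroup.zpowers_le.mpr (hHA (h.KH hw'C.1))) (hHA (h.KH he.1)) (hCT' he)
      (by rw [Nat.card_zpowers, hw'o]; exact (h.cop_pow hexp hqs).symm) ?_
      (by rw [Nat.card_zpowers, hw'o]; exact (Nat.coprime_primes hrp hsp).mpr h6) fun c hc hec => ?_
    · rw [eq_bot_iff]
      intro a ha
      exact Subgroup.mem_bot.mpr ((hCs w' hw'C hw'o).1 a ha.1
        (commute_of_mem_centralizer ha.2 (Subgroup.mem_zpowers w')).symm)
    · rcases eq_or_ne c 1 with rfl | hc1
      · exact one_mem _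
      · exact absurd (commute_of_generator hw'o hc1 hc hec) (hbw' e he heo heA)
  rcases hline with hKt | ⟨u, hu, huo, huA, hKu⟩
  · -- `⟨t⟩` is normal in `K`
    have hKC : K ≤ Subgroup.normalizer (C : Set G) := Coprime.le_normalizer_inf_of_le Subgroup.le_normalizer
      (fun g hg => by
        rw [← centralizer_zpowers_eq]
        exact mem_normalizer_centralizer (hKt hg))
    have hKw' : ∀ g ∈ K, g * w' * g⁻¹ ∈ Subgroup.zpowers w' := fun g hg =>
      honly _ ((Subgroup.mem_normalizer_iff.mp (hKC hg) w').mp hw'C) (by rw [orderOf_conj, hw'o])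
    have hnoS : ∀ v ∈ K, orderOf v = x' → v ∉ Subgroup.centralizer (A : Set G) := by
      intro v hv hvo hvA
      by_cases hvt : Commute v t
      · exact (hCs v (hmemC.mpr ⟨hv, hvt⟩) hvo).2 hvA
      · refine exists_fixed_prime (U := N) (W := Subgroup.zpowers t) hsp hvo h.neN
          (Subgroup.zpowers_le.mpr (h.normN (h.KH ht))) (h.normN (h.KH hv)) (hKt hv)
          (h.copN.symm.coprime_dvd_right (Subgroup.card_dvd_of_le (Subgroup.zpowers_le.mpr (h.KH ht)))) ?_
          (by rw [Nat.card_zpowers, hto]; exact (Nat.coprime_primes hsp hrp).mpr h6.symm) (fun c hc hvc => ?_)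
          (hD v hv hvA x' hs h3 h5 hvo)
        · rw [centralizer_zpowers_eq]; exact hD t ht htA r hr h2 h4 hto
        · rcases eq_or_ne c 1 with rfl | hc1
          · exact one_mem _
          · exact absurd (commute_of_generator hto hc1 hc hvc) hvt
    obtain ⟨P, -, hPK, hP⟩ := exists_full (Y := (⊥ : Subgroup G)) h.idxs bot_le IsPGroup.of_bot
    obtain ⟨x, hx, y, hy, hxo, hyo, hxy, hne⟩ := h.quad.exists_indep hs hP
    obtain ⟨v, hv, hvC⟩ : ∃ v ∈ K, v ∉ C := by
      by_cases h7 : x ∈ C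
      · exact ⟨y, hPK hy, fun h8 => hne (hsemi x h7 y h8 hxo hyo hxy)⟩
      · exact ⟨x, hPK hx, h7⟩
    -- Frattini argument
    set R' := R.map (MulAut.conj v).toMonoidHom with hR'
    have hR'C : R' ≤ C := by
      rintro _ ⟨e, he, rfl⟩
      exact (Subgroup.mem_normalizer_iff.mp (hKC hv) e).mp (hRC he)
    have hP1 : ¬ r ∣ (R.subgroupOf C).index := fun hd =>
      hR.2 (hd.trans (Subgroup.relIndex_dvd_index_of_le hRC))
    have hP2 : ¬ r ∣ (R'.subgroupOf C).index := fun hd => hR.2 (by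
      have := hd.trans (Subgroup.relIndex_dvd_index_of_le hR'C)
      rw [hR'] at this
      exact (Subgroup.index_map_equiv R (MulAut.conj v)) ▸ this)
    obtain ⟨c, hc⟩ := MulAction.exists_smul_eq C
      (((hR.1.map (MulAut.conj v).toMonoidHom).comap_subtype (K := C)).toSylow hP2)
      ((hR.1.comap_subtype (K := C)).toSylow hP1)
    have hcv : ∀ e ∈ R, ((c : G) * v) * e * ((c : G) * v)⁻¹ ∈ R := by
      intro e he
      have hm : v * e * v⁻¹ ∈ R' := ⟨e, he, rfl⟩
      have h7 : c * (⟨v * e * v⁻¹, hR'C hm⟩ : C) * c⁻¹ ∈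
          ((c • ((hR.1.map (MulAut.conj v).toMonoidHom).comap_subtype (K := C)).toSylow hP2 : Sylow r C) :
            Subgroup C) := by
        rw [Sylow.coe_subgroup_smul]
        exact ⟨_, hm, rfl⟩
      rw [hc] at h7
      have h8 : (c : G) * (v * e * v⁻¹) * (c : G)⁻¹ ∈ R := h7
      simpa [mul_assoc] using h8
    set x₁ := (c : G) * v with hx₁
    have hx₁K : x₁ ∈ K := K.mul_mem c.2.1 hv
    have hx₁C : x₁ ∉ C := fun hh => hvC ((Subgroup.mul_mem_cancel_left C c.2).mp hh)
    have hx₁R : x₁ ∈ Subgroup.normalizer (R : Set G) := PrimaryParts.mem_normalizer_of_conj_mem hcv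
    obtain ⟨k, m, hkm⟩ : ∃ k m : ℕ, orderOf x₁ = r ^ k * x' ^ m := by
      refine ⟨(orderOf x₁).factorization r, (orderOf x₁).factorization x', ?_⟩
      have hd : orderOf x₁ ∣ Nat.card K := Subgroup.orderOf_dvd_natCard K hx₁K
      have hne0 : orderOf x₁ ≠ 0 := (orderOf_pos x₁).ne'
      refine Nat.eq_of_factorization_eq hne0 (mul_ne_zero (pow_ne_zero _ hrp.ne_zero) (pow_ne_zero _ hsp.ne_zero))
        fun z => ?_
      rw [Nat.factorization_mul (pow_ne_zero _ hrp.ne_zero) (pow_ne_zero _ hsp.ne_zero),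
        hrp.factorization_pow, hsp.factorization_pow, Finsupp.add_apply, Finsupp.single_apply, Finsupp.single_apply]
      rcases eq_or_ne r z with e1 | e1
      · rw [if_pos e1, if_neg (fun e2 => h6 (e1.trans e2.symm)), add_zero, e1]
      rcases eq_or_ne x' z with e2 | e2
      · rw [if_neg e1, if_pos e2, zero_add, e2]
      rw [if_neg e1, if_neg e2, add_zero]
      by_contra h0
      have hzp : z.Prime := by
        by_contra h'
        exact h0 (Nat.factorization_eq_zero_of_not_prime _ h')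
      have hzd : z ∣ orderOf x₁ := by
        by_contra h'
        exact h0 (Nat.factorization_eq_zero_of_not_dvd h')
      rcases h.primes z hzp (hzd.trans hd) with e3 | e3
      · exact e1 e3.symm
      · exact e2 e3.symm
    set z := x₁ ^ r ^ k with hz
    have hzo : orderOf z = x' ^ m := by
      rw [hz, orderOf_pow_of_dvd (pow_ne_zero _ hrp.ne_zero) (hkm ▸ dvd_mul_right _ _), hkm,
        Nat.mul_div_cancel_left _ (pow_pos hrp.pos _)]
    have hzC : z ∉ C := by
      intro hzc
      apply hx₁C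
      have h7 : x₁ ^ x' ^ m ∈ C := hRC (hR.mem_of_normalizer (Subgroup.pow_mem _ hx₁R _) (k := k) (by
        rw [orderOf_pow_of_dvd (pow_ne_zero _ hsp.ne_zero) (hkm ▸ dvd_mul_left _ _), hkm,
          Nat.mul_div_cancel _ (pow_pos hsp.pos _)]))
      obtain ⟨i, j, hij⟩ := Nat.isCoprime_iff_coprime.mpr
        (((Nat.coprime_primes hrp hsp).mpr h6).pow k m)
      have h8 : x₁ = z ^ i * (x₁ ^ x' ^ m) ^ j := by
        rw [hz, ← zpow_natCast, ← zpow_natCast x₁ (x' ^ m), ← zpow_mul, ← zpow_mul, ← zpow_add,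
          mul_comm _ i, mul_comm _ j, hij, zpow_one]
      rw [h8]
      exact C.mul_mem (C.zpow_mem hzc i) (C.zpow_mem h7 j)
    have hzK : z ∈ K := K.pow_mem hx₁K _
    have hzR : Subgroup.zpowers z ≤ Subgroup.normalizer (R : Set G) :=
      Subgroup.zpowers_le.mpr (Subgroup.pow_mem _ hx₁R _)
    have hm0 : m ≠ 0 := fun h0 => hzC (by
      rw [h0, pow_zero, orderOf_eq_one_iff] at hzo
      rw [hzo]; exact one_mem _)
    have hzw' : Commute z w' := commute_of_line hw'o (hKw' z hzK) (k := m) hzo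
    set R₁ := R ⊓ Subgroup.centralizer ({w'} : Set G) with hR₁
    have hbR₁ : b ∉ R₁ := fun hh => hbw' b (hRC hb) hbo hbA (Subgroup.mem_centralizer_singleton_iff.mp hh.2)
    obtain ⟨k', hk'⟩ := IsPGroup.iff_card.mp hR.1
    obtain ⟨c', hc', hbc'⟩ := Coprime.exists_centralizer_mem_coset (A := Subgroup.zpowers z) (K := R) hzR
      (by rw [Nat.card_zpowers, hzo, hk']; exact ((Nat.coprime_primes hsp hrp).mpr h6.symm).pow _ _)
      (Or.inl (Coprime.isSolvable_of_isMulCommutative _)) (N := R₁) inf_le_left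
      (Coprime.le_normalizer_inf_of_le hzR (Subgroup.zpowers_le.mpr (mem_normalizer_centralizer_singleton hzw')))
      hb (fun a ha => by
        obtain ⟨j, rfl⟩ := Subgroup.mem_zpowers_iff.mp ha
        refine Subgroup.mem_inf.mpr ⟨R.mul_mem (R.inv_mem hb)
          ((Subgroup.mem_normalizer_iff.mp (hzR (Subgroup.zpow_mem _ (Subgroup.mem_zpowers z) j)) b).mp hb), ?_⟩
        have haw : Commute (z ^ j) w' := hzw'.zpow_left j
        obtain ⟨i, hi⟩ := Subgroup.mem_zpowers_iff.mp (hKw' b (hRK hb))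
        rw [Subgroup.mem_centralizer_singleton_iff]
        have h7 : (z ^ j * b * (z ^ j)⁻¹) * w' * (z ^ j * b * (z ^ j)⁻¹)⁻¹ = b * w' * b⁻¹ := by
          calc (z ^ j * b * (z ^ j)⁻¹) * w' * (z ^ j * b * (z ^ j)⁻¹)⁻¹
              = z ^ j * (b * ((z ^ j)⁻¹ * (w' * z ^ j)) * b⁻¹) * (z ^ j)⁻¹ := by group
            _ = z ^ j * (b * w' * b⁻¹) * (z ^ j)⁻¹ := by rw [← haw.eq, inv_mul_cancel_left]
            _ = b * w' * b⁻¹ := by rw [← hi, (haw.zpow_right i).eq, mul_inv_cancel_right]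
        calc b⁻¹ * (z ^ j * b * (z ^ j)⁻¹) * w'
            = b⁻¹ * ((z ^ j * b * (z ^ j)⁻¹) * w' * (z ^ j * b * (z ^ j)⁻¹)⁻¹) * (z ^ j * b * (z ^ j)⁻¹) := by group
          _ = w' * (b⁻¹ * (z ^ j * b * (z ^ j)⁻¹)) := by rw [h7]; group)
    obtain ⟨hc'R, hc'z⟩ := Subgroup.mem_inf.mp hc'
    have hc'1 : c' ≠ 1 := fun e => hbR₁ (by
      rw [e, mul_one] at hbc'
      exact (Subgroup.inv_mem_iff _).mp hbc')
    obtain ⟨kc, hkc⟩ := (IsPGroup.iff_orderOf.mp hR.1) ⟨c', hc'R⟩
    rw [← Subgroup.orderOf_coe] at hkc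
    rw [show ((⟨c', hc'R⟩ : R) : G) = c' from rfl] at hkc
    have hkc0 : kc ≠ 0 := fun h0 => hc'1 (orderOf_eq_one_iff.mp (by rw [hkc, h0, pow_zero]))
    set x₀ := c' ^ r ^ (kc - 1) with hx₀
    have hx₀o : orderOf x₀ = r := by
      rw [hx₀, orderOf_pow_of_dvd (pow_ne_zero _ hrp.ne_zero) (by rw [hkc]; exact pow_dvd_pow r (by omega)),
        hkc, Nat.pow_div (by omega) hrp.pos, show kc - (kc - 1) = 1 by omega, pow_one]
    have hx₀R : x₀ ∈ R := R.pow_mem hc'R _
    have hx₀z : Commute z x₀ := (commute_of_mem_centralizer hc'z (Subgroup.mem_zpowers z)).pow_right _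
    have hx₀A : x₀ ∉ Subgroup.centralizer (A : Set G) := fun hh => hzC (hmemC.mpr ⟨hzK, by
      obtain ⟨i, hi⟩ := Subgroup.mem_zpowers_iff.mp (mem_zpowers_swap hx₀o hto (huR x₀ hx₀R hx₀o hh))
      exact hi ▸ hx₀z.zpow_right i⟩)
    set z₀ := z ^ x' ^ (m - 1) with hz₀
    have hz₀o : orderOf z₀ = x' := by
      rw [hz₀, orderOf_pow_of_dvd (pow_ne_zero _ hsp.ne_zero) (by rw [hzo]; exact pow_dvd_pow x' (by omega)),
        hzo, Nat.pow_div (by omega) hsp.pos, show m - (m - 1) = 1 by omega, pow_one]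
    rcases h.one_in hAH hHA hexp (hRK hx₀R) hx₀o (K.pow_mem hzK _) hz₀o (hx₀z.pow_left _).symm with h7 | h7
    · exact hx₀A h7
    · exact hnoS z₀ (K.pow_mem hzK _) hz₀o h7
  · -- a normal subgroup of order `s` centralizing `A`
    have hu1 : Subgroup.zpowers u ≠ ⊥ := fun e => by
      have h7 : u ∈ (⊥ : Subgroup G) := e ▸ Subgroup.mem_zpowers u
      rw [Subgroup.mem_bot] at h7
      rw [h7, orderOf_one] at huo
      exact hsp.ne_one huo.symm
    haveI : IsMulCommutative (Subgroup.zpowers u) := inferInstance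
    obtain ⟨e, he, heo, hef⟩ := exists_fixed_of_pair hbo hto (htRc b hb) hbt hu1 (hKu (hRK hb)) (hKu ht)
    obtain ⟨u', hu', hu'1, hu'e⟩ := exists_mem_fx hef
    have heu : Commute e u := commute_of_generator huo hu'1 hu' hu'e.symm
    have heC : e ∈ C := (Subgroup.closure_le _).mpr (by
      rintro c (rfl | rfl)
      · exact hRC hb
      · exact hRC htR') he
    by_cases heA : e ∈ Subgroup.centralizer (A : Set G)
    · exact h.quad.triple q hq r hr x' hs h4 h6 h5 a₀ e u (orderOf_eq_of_exponent hexp ha₀ ha₀') heo huo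
        (commute_of_mem_centralizer heA ha₀) (commute_of_mem_centralizer huA ha₀) heu
    · obtain ⟨a, ha, ha1, hae⟩ := exists_mem_fx (hfe e heC heo heA)
      exact h.quad.triple q hq r hr x' hs h4 h6 h5 a e u (orderOf_eq_of_exponent hexp ha ha1) heo huo
        hae (commute_of_mem_centralizer huA ha) heu

/-- There is no noncyclic normal elementary subgroup. -/
theorem no_noncyclic (h : One σ p q r s N H K) {A : Subgroup G} (hAH : A ≤ H)
    (hHA : H ≤ Subgroup.normalizer (A : Set G)) [IsMulCommutative A] (hexp : ∀ a ∈ A, a ^ q = 1)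
    (hnc : ¬ IsCyclic A) : False := by
  obtain ⟨hp, hq, hr, hs⟩ := h.mem
  obtain ⟨h1, h2, h3, h4, h5, h6⟩ := h.dis
  haveI : Fact q.Prime := ⟨h.quad.prime q hq⟩
  obtain ⟨⟨a, ha⟩, ha1⟩ := Subgroup.ne_bot_iff_exists_ne_one.mp fun e : A = ⊥ => hnc (e ▸ inferInstance)
  obtain ⟨b, hb, w, hw, hbo, hwo, hbw⟩ := h.exists_commuting
  by_cases hbA : b ∈ Subgroup.centralizer (A : Set G)
  · refine h.noncyclic_aux hAH hHA hexp hnc hb hbo hbA hw hwo hbw fun hwA => ?_
    exact h.quad.triple q hq r hr s hs h4 h6 h5 a b w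
      (orderOf_eq_of_exponent hexp ha fun e => ha1 (Subtype.ext e)) hbo hwo
      (commute_of_mem_centralizer hbA ha) (commute_of_mem_centralizer hwA ha) hbw
  · exact h.swap.noncyclic_aux hAH hHA hexp hnc hw hwo
      ((h.one_in hAH hHA hexp hb hbo hw hwo hbw).resolve_left hbA) hb hbo hbw.symm hbA

end One

end CfsgLib.FourPrimes
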