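import Mathlib
import Cfsg.Agent.Lib.FourPrimes.Faithful

/-!
Four primes, faithful action: the cores are cyclic, and a cyclic core is impossible.
-/

set_option autoImplicit false
set_option linter.style.haveILetI false
set_option linter.unusedSectionVars false

open scoped commutatorElement

namespace CfsgLib.FourPrimes

open CfsgLib.OddLocal (opOf)

universe u

variable {G : Type u} [Group G] [Finite G]

theorem exists_prime_power {e : G} {r : ℕ} (hr : r ∣ orderOf e) :
    orderOf (e ^ (orderOf e / r)) = r := by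
  have h0 := (orderOf_pos e).ne'
  obtain ⟨d, hd⟩ := hr
  rw [hd] at h0 ⊢
  rw [mul_ne_zero_iff] at h0
  rw [Nat.mul_div_cancel_left _ (Nat.pos_of_ne_zero h0.1),
    orderOf_pow_of_dvd h0.2 (hd ▸ dvd_mul_left d r), hd,
    Nat.mul_div_cancel _ (Nat.pos_of_ne_zero h0.2)]

namespace One

variable {σ : Finset ℕ} {p q r s : ℕ} {N H K : Subgroup G}

/-- An elementary abelian `r`-subgroup normalized by `K` centralizing `a`. -/
def Kern (r : ℕ) (K : Subgroup G) (a : G) : Prop :=
  ∃ T : Subgroup G, T ≤ K ∧ T ≠ ⊥ ∧ K ≤ Subgroup.normalizer (T : Set G) ∧ IsMulCommutative T ∧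
    (∀ e ∈ T, e ^ r = 1) ∧ ∀ e ∈ T, Commute e a

theorem exp_zpowers {a : G} {q : ℕ} (hao : orderOf a = q) : ∀ e ∈ Subgroup.zpowers a, e ^ q = 1 := by
  rintro e ⟨j, rfl⟩
  show (a ^ j) ^ q = 1
  rw [← zpow_natCast, ← zpow_mul, mul_comm, zpow_mul, zpow_natCast, ← hao, pow_orderOf_eq_one,
    one_zpow]

theorem line_fpf (h : One σ p q r s N H K) {a : G} (ha : a ∈ H) (hao : orderOf a = q)
    (hHa : H ≤ Subgroup.normalizer (Subgroup.zpowers a : Set G)) : fx N a = ⊥ :=
  Two.fx_of_fixed_line (h.irr _ (Subgroup.zpowers_le.mpr ha) hHa fun e => by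
    rw [Subgroup.zpowers_eq_bot] at e
    rw [e, orderOf_one] at hao
    exact (h.quad.prime q h.mem.2.1).ne_one hao.symm)

theorem one_in_line (h : One σ p q r s N H K) {a : G} (ha : a ∈ H) (hao : orderOf a = q)
    (hHa : H ≤ Subgroup.normalizer (Subgroup.zpowers a : Set G))
    {b w : G} (hb : b ∈ K) (hbo : orderOf b = r) (hw : w ∈ K) (hwo : orderOf w = s) (hbw : Commute b w) :
    Commute b a ∨ Commute w a :=
  (h.one_in (Subgroup.zpowers_le.mpr ha) hHa (exp_zpowers hao) hb hbo hw hwo hbw).imp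
    (fun h7 => (h7 a (Subgroup.mem_zpowers a)).symm) (fun h7 => (h7 a (Subgroup.mem_zpowers a)).symm)

theorem kern_or (h : One σ p q r s N H K) {a : G} (ha : a ∈ H) (hao : orderOf a = q)
    (hHa : H ≤ Subgroup.normalizer (Subgroup.zpowers a : Set G)) : Kern r K a ∨ Kern s K a := by
  haveI := h.solv
  have hKn : K ≤ Subgroup.normalizer ((K ⊓ Subgroup.centralizer ({a} : Set G) : Subgroup G) : Set G) :=
    Coprime.le_normalizer_inf_of_le Subgroup.le_normalizer fun g hg => by
      rw [← centralizer_zpowers_eq]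
      exact mem_normalizer_centralizer (hHa (h.KH hg))
  have hne : K ⊓ Subgroup.centralizer ({a} : Set G) ≠ ⊥ := by
    obtain ⟨b, hb, w, hw, hbo, hwo, hbw⟩ := h.exists_commuting
    intro e
    have key : ∀ {x : G} {n : ℕ}, x ∈ K → orderOf x = n → n.Prime → Commute x a → False := by
      intro x n hx hxo hn hxa
      have : x ∈ K ⊓ Subgroup.centralizer ({a} : Set G) :=
        ⟨hx, Subgroup.mem_centralizer_singleton_iff.mpr hxa.eq⟩
      rw [e, Subgroup.mem_bot] at this
      rw [this, orderOf_one] at hxo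
      exact hn.ne_one hxo.symm
    rcases h.one_in_line ha hao hHa hb hbo hw hwo hbw with h7 | h7
    · exact key hb hbo (h.quad.prime r h.mem.2.2.1) h7
    · exact key hw hwo (h.quad.prime s h.mem.2.2.2) h7
  obtain ⟨T, x, hTM, hT, hKT, -, hx, hxd, hTc, hTe⟩ := exists_minimal hKn hne
  have hcom : ∀ e ∈ T, Commute e a := fun e he =>
    Subgroup.mem_centralizer_singleton_iff.mp (hTM he).2
  rcases h.primes x hx (hxd.trans (Subgroup.card_dvd_of_le (hTM.trans inf_le_left))) with rfl | rfl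
  · exact Or.inl ⟨T, hTM.trans inf_le_left, hT, hKT, hTc, hTe, hcom⟩
  · exact Or.inr ⟨T, hTM.trans inf_le_left, hT, hKT, hTc, hTe, hcom⟩

/-- The elements of order `s` next to such a subgroup fix points. -/
theorem fix_outer (h : One σ p q r s N H K) {a : G} (hao : orderOf a = q) (hk : Kern r K a) {u : G}
    (hu : u ∈ K) (huo : orderOf u = s) (hua : Commute u a) : fx N u ≠ ⊥ := by
  haveI := h.commN
  obtain ⟨hp, hq, hr, hs⟩ := h.mem
  obtain ⟨h1, h2, h3, h4, h5, h6⟩ := h.dis
  obtain ⟨T, hTK, hT, hKT, hTc, hTe, hTa⟩ := hk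
  haveI : Fact r.Prime := ⟨h.quad.prime r hr⟩
  have hTH : T ≤ H := hTK.trans h.KH
  have hcop : (Nat.card T).Coprime (Nat.card N) := h.copN.coprime_dvd_left (Subgroup.card_dvd_of_le hTH)
  obtain ⟨hUle, hU, hUfix, hUn⟩ := moved (hTH.trans h.normN) hcop (h.not_centralizes hTH hT)
  haveI := isMulCommutative_of_le hUle
  have hTs : s.Coprime (Nat.card T) := by
    obtain ⟨k, hk⟩ := IsPGroup.iff_card.mp (show IsPGroup r T from fun e =>
      ⟨1, Subtype.ext (by rw [pow_one, Subgroup.coe_pow, hTe e e.2, Subgroup.coe_one])⟩)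
    rw [hk]
    exact ((Nat.coprime_primes (h.quad.prime s hs) (h.quad.prime r hr)).mpr h6.symm).pow_right k
  have hf := exists_fixed_prime (W := T) (h.quad.prime s hs) huo hU hUn
    (Coprime.le_normalizer_commutator (A := Subgroup.zpowers u) (Subgroup.zpowers_le.mpr (h.normN (h.KH hu)))
      (Subgroup.zpowers_le.mpr (hKT hu)) (Subgroup.mem_zpowers u))
    (hKT hu) (hcop.symm.coprime_dvd_left (Subgroup.card_dvd_of_le hUle)) hUfix hTs fun c hc huc => by
      suffices c = 1 by rw [this]; exact one_mem _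
      by_contra hc1
      exact h.quad.triple q hq r hr s hs h4 h6 h5 a c u hao (orderOf_eq_of_exponent hTe hc hc1) huo
        (hTa c hc).symm hua.symm huc.symm
  intro e
  exact hf (le_bot_iff.mp ((fx_mono hUle u).trans e.le))

/-- Two such elements commuting generate the same line. -/
theorem no_pair (h : One σ p q r s N H K) {a : G} (hao : orderOf a = q) (hk : Kern r K a) {x y : G}
    (hx : x ∈ K) (hy : y ∈ K) (hxo : orderOf x = s) (hyo : orderOf y = s) (hxy : Commute x y)
    (hne : x ∉ Subgroup.zpowers y) : ¬ (Commute x a ∧ Commute y a) := by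
  rintro ⟨hxa, hya⟩
  obtain ⟨hp, hq, hr, hs⟩ := h.mem
  obtain ⟨h1, h2, h3, h4, h5, h6⟩ := h.dis
  obtain ⟨T, hTK, hT, hKT, hTc, hTe, hTa⟩ := hk
  haveI : Fact r.Prime := ⟨h.quad.prime r hr⟩
  haveI : Fact s.Prime := ⟨h.quad.prime s hs⟩
  obtain ⟨e, he, heo, hef⟩ := exists_fixed_of_pair hxo hyo hxy hne hT (hKT hx) (hKT hy)
  have hea : e ∈ Subgroup.centralizer ({a} : Set G) := (Subgroup.closure_le _).mpr (by
    rintro c (rfl | rfl)
    · exact Subgroup.mem_centralizer_singleton_iff.mpr hxa.eq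
    · exact Subgroup.mem_centralizer_singleton_iff.mpr hya.eq) he
  obtain ⟨t, ht, ht1, hte⟩ := exists_mem_fx hef
  exact h.quad.triple q hq r hr s hs h4 h6 h5 a t e hao (orderOf_eq_of_exponent hTe ht ht1) heo
    (hTa t ht).symm (Subgroup.mem_centralizer_singleton_iff.mp hea).symm hte

/-- An element of order `r` moving `a` commutes with no element of order `s`. -/
theorem no_commute (h : One σ p q r s N H K) {a : G} (ha : a ∈ H) (hao : orderOf a = q)
    (hHa : H ≤ Subgroup.normalizer (Subgroup.zpowers a : Set G)) (hk : Kern r K a) {b w : G}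
    (hb : b ∈ K) (hbo : orderOf b = r) (hba : ¬ Commute b a) (hw : w ∈ K) (hwo : orderOf w = s) :
    ¬ Commute b w := by
  intro hbw
  haveI := h.commN
  obtain ⟨hp, hq, hr, hs⟩ := h.mem
  obtain ⟨h1, h2, h3, h4, h5, h6⟩ := h.dis
  haveI : Fact q.Prime := ⟨h.quad.prime q hq⟩
  have hwa := (h.one_in_line ha hao hHa hb hbo hw hwo hbw).resolve_left hba
  have hf := h.fix_outer hao hk hw hwo hwa
  haveI := isMulCommutative_of_le (fx_le N w)
  have hfix : fx N w ⊓ Subgroup.centralizer (Subgroup.zpowers a : Set G) = ⊥ := by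
    rw [centralizer_zpowers_eq, eq_bot_iff, ← h.line_fpf ha hao hHa]
    exact inf_le_inf_right _ (fx_le N w)
  have hf' := exists_fixed_prime (W := Subgroup.zpowers a) (h.quad.prime r hr) hbo hf
    (Subgroup.zpowers_le.mpr (mem_normalizer_fx (h.normN ha) hwa.symm))
    (mem_normalizer_fx (h.normN (h.KH hb)) hbw) (hHa (h.KH hb))
    ((h.copN.coprime_dvd_left (Subgroup.card_dvd_of_le (Subgroup.zpowers_le.mpr ha))).symm.coprime_dvd_left
      (Subgroup.card_dvd_of_le (fx_le N w))) hfix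
    (by
      rw [Nat.card_zpowers, hao]
      exact (Nat.coprime_primes (h.quad.prime r hr) (h.quad.prime q hq)).mpr h4.symm)
    fun c hc hbc => by
      suffices c = 1 by rw [this]; exact one_mem _
      by_contra hc1
      exact hba (commute_of_generator hao hc1 hc hbc)
  obtain ⟨n, hn, hn1, hnb⟩ := exists_mem_fx hf'
  obtain ⟨hnN, hnw⟩ := mem_fx.mp hn
  exact h.no_common hr hs h2 h3 h6 hbo hwo hbw hnN hn1 hnb hnw

/-- The case of a subgroup of exponent `q` with center of order `q`. -/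
theorem no_special (h : One σ p q r s N H K) {E : Subgroup G} (hEH : E ≤ H)
    (hHE : H ≤ Subgroup.normalizer (E : Set G)) (hexp : ∀ e ∈ E, e ^ q = 1) {a : G} (ha : a ∈ E)
    (hao : orderOf a = q) (hHa : H ≤ Subgroup.normalizer (Subgroup.zpowers a : Set G))
    (haE : ∀ x ∈ E, Commute x a) (hcen : ∀ x ∈ E, ∀ y ∈ E, ⁅x, y⁆ ∈ Subgroup.zpowers a)
    (hZ : ∀ x ∈ E, (∀ y ∈ E, Commute y x) → x ∈ Subgroup.zpowers a)
    (hne : ¬ E ≤ Subgroup.zpowers a) (hk : Kern r K a) : False := by
  haveI := h.solv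
  haveI := h.commN
  obtain ⟨hp, hq, hr, hs⟩ := h.mem
  obtain ⟨h1, h2, h3, h4, h5, h6⟩ := h.dis
  haveI : Fact q.Prime := ⟨h.quad.prime q hq⟩
  haveI : Fact s.Prime := ⟨h.quad.prime s hs⟩
  have haH : a ∈ H := hEH ha
  have hfa : fx N a = ⊥ := h.line_fpf haH hao hHa
  have hcd : ∀ c ∈ E, c ∉ Subgroup.zpowers a → orderOf c = q ∧ ∃ d ∈ E, ⁅d, c⁆ ≠ 1 := by
    intro c hc hca
    refine ⟨orderOf_eq_of_exponent hexp hc fun e => hca (e ▸ one_mem _), ?_⟩
    by_contra hall
    push Not at hall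
    exact hca (hZ c hc fun y hy => commutatorElement_eq_one_iff_commute.mp (hall y hy))
  -- a pair in `K`
  obtain ⟨P, -, hPK, hP⟩ := exists_full (Y := (⊥ : Subgroup G)) h.idxs bot_le IsPGroup.of_bot
  obtain ⟨x, hx, y, hy, hxo, hyo, hxy, hxyne⟩ := h.quad.exists_indep hs hP
  haveI : IsMulCommutative (Subgroup.zpowers a) := inferInstance
  obtain ⟨u, huV, huo, huf⟩ := exists_fixed_of_pair hxo hyo hxy hxyne
    (U := Subgroup.zpowers a) (fun e => by
      rw [Subgroup.zpowers_eq_bot] at e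
      rw [e, orderOf_one] at hao
      exact (h.quad.prime q hq).ne_one hao.symm)
    (hHa (h.KH (hPK hx))) (hHa (h.KH (hPK hy)))
  obtain ⟨hVc, hVn, hVexp⟩ := pair_group hxo hyo hxy hxyne
  set V := Subgroup.closure ({x, y} : Set G) with hV
  have hVK : V ≤ K := (Subgroup.closure_le _).mpr (by
    rintro z (rfl | rfl)
    · exact hPK hx
    · exact hPK hy)
  haveI := hVc
  obtain ⟨a', ha', ha'1, ha'u⟩ := exists_mem_fx huf
  have hua : Commute u a := commute_of_generator hao ha'1 ha' ha'u.symm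
  -- every other element of the pair moves `a`
  have hmove : ∀ v ∈ V, v ∉ Subgroup.zpowers u → ¬ Commute v a := by
    intro v hv hvu hva
    exact h.no_pair hao hk (hVK hv) (hVK huV)
      (orderOf_eq_of_exponent hVexp hv fun e => hvu (e ▸ one_mem _)) huo
      (commute_of_mem hv huV) hvu ⟨hva, hua⟩
  have hEu : E ≤ Subgroup.centralizer ({u} : Set G) := by
    refine Coprime.le_of_centralizer_le hVn (hVK.trans (h.KH.trans hHE)) ?_ ?_
    · obtain ⟨k, hk⟩ := IsPGroup.iff_card.mp (show IsPGroup s V from fun e =>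
        ⟨1, Subtype.ext (by rw [pow_one, Subgroup.coe_pow, hVexp e e.2, Subgroup.coe_one])⟩)
      rw [hk]
      exact (h.cop_pow hexp h.not_dvd_q.2).pow_left k
    intro v hv hv1 c hc
    obtain ⟨hcE, hcv⟩ := Subgroup.mem_inf.mp hc
    rw [Subgroup.mem_centralizer_singleton_iff] at hcv ⊢
    by_cases hvu : v ∈ Subgroup.zpowers u
    · exact (commute_of_generator huo hv1 hvu (show Commute c v from hcv)).eq
    by_cases hca : c ∈ Subgroup.zpowers a
    · obtain ⟨j, rfl⟩ := Subgroup.mem_zpowers_iff.mp hca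
      exact ((hua.zpow_right j).symm).eq
    exfalso
    obtain ⟨hco, d, hd, hdc⟩ := hcd c hcE hca
    have hfc : fx N c ≠ ⊥ := exists_fixed_of_commutator hao hco (haE c hcE).symm hca (haE d hd)
      (hcen d hd c hcE) hdc h.neN (h.normN haH) (h.normN (hEH hcE)) (h.normN (hEH hd)) hfa
    haveI := isMulCommutative_of_le (fx_le N c)
    have hfix : fx N c ⊓ Subgroup.centralizer (Subgroup.zpowers a : Set G) = ⊥ := by
      rw [centralizer_zpowers_eq, eq_bot_iff, ← hfa]
      exact inf_le_inf_right _ (fx_le N c)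
    have hvo : orderOf v = s := orderOf_eq_of_exponent hVexp hv hv1
    have hf' := exists_fixed_prime (W := Subgroup.zpowers a) (h.quad.prime s hs) hvo hfc
      (Subgroup.zpowers_le.mpr (mem_normalizer_fx (h.normN haH) (haE c hcE).symm))
      (mem_normalizer_fx (h.normN (h.KH (hVK hv))) (show Commute v c from hcv.symm))
      (hHa (h.KH (hVK hv)))
      ((h.copN.coprime_dvd_left (Subgroup.card_dvd_of_le (Subgroup.zpowers_le.mpr haH))).symm.coprime_dvd_left
        (Subgroup.card_dvd_of_le (fx_le N c))) hfix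
      (by
        rw [Nat.card_zpowers, hao]
        exact (Nat.coprime_primes (h.quad.prime s hs) (h.quad.prime q hq)).mpr h5.symm)
      fun e he hve => by
        suffices e = 1 by rw [this]; exact one_mem _
        by_contra he1
        exact hmove v hv hvu (commute_of_generator hao he1 he hve)
    obtain ⟨n, hn, hn1, hnv⟩ := exists_mem_fx hf'
    obtain ⟨hnN, hnc⟩ := mem_fx.mp hn
    exact h.no_common hq hs h1 h3 h5 hco hvo hcv hnN hn1 hnc hnv
  obtain ⟨c, hc, hca⟩ := Set.not_subset.mp hne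
  obtain ⟨hco, d, hd, hdc⟩ := hcd c hc hca
  have hcom : ∀ e ∈ E, Commute e u := fun e he =>
    Subgroup.mem_centralizer_singleton_iff.mp (hEu he)
  have hfu := h.fix_outer hao hk (hVK huV) huo hua
  haveI := isMulCommutative_of_le (fx_le N u)
  have hfa' : fx (fx N u) a = ⊥ := le_bot_iff.mp ((fx_mono (fx_le N u) a).trans hfa.le)
  have hf := exists_fixed_of_commutator hao hco (haE c hc).symm hca (haE d hd) (hcen d hd c hc) hdc hfu
    (mem_normalizer_fx (h.normN haH) hua.symm) (mem_normalizer_fx (h.normN (hEH hc)) (hcom c hc))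
    (mem_normalizer_fx (h.normN (hEH hd)) (hcom d hd)) hfa'
  obtain ⟨n, hn, hn1, hnc⟩ := exists_mem_fx hf
  obtain ⟨hnN, hnu⟩ := mem_fx.mp hn
  exact h.no_common hq hs h1 h3 h5 hco huo (hcom c hc) hnN hn1 hnc hnu

/-- The `q`-core is cyclic. -/
theorem core_cyclic (h : One σ p q r s N H K) : IsCyclic (opOf q H) := by
  haveI := h.solv
  obtain ⟨hp, hq, hr, hs⟩ := h.mem
  obtain ⟨h1, h2, h3, h4, h5, h6⟩ := h.dis
  haveI : Fact q.Prime := ⟨h.quad.prime q hq⟩
  by_contra hnc
  set O := opOf q H with hO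
  have hOH : O ≤ H := OddLocal.piCoreOf_le _ H
  have hHO : H ≤ Subgroup.normalizer (O : Set G) := OddLocal.le_normalizer_piCoreOf _ H
  have hOp : IsPGroup q O := OddLocal.isPGroup_opOf (h.quad.prime q hq) H
  by_cases hq2 : q = 2
  · have hOne : O ≠ ⊥ := fun e => hnc (e ▸ inferInstance)
    obtain ⟨T, x, hTO, hT, hHT, -, hx, hxd, hTc, hTe⟩ := exists_minimal (K := H) hHO hOne
    obtain ⟨k, hk⟩ := IsPGroup.iff_card.mp hOp
    obtain rfl : x = q := (Nat.prime_dvd_prime_iff_eq hx (h.quad.prime q hq)).mp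
      (hx.dvd_of_dvd_pow (hk ▸ hxd.trans (Subgroup.card_dvd_of_le hTO)))
    haveI := hTc
    by_cases hcy : IsCyclic T
    · obtain ⟨a, hao, rfl⟩ := eq_zpowers_of_cyclic hT hTe
      have hcent : ∀ g ∈ H, Commute g a := by
        intro g hg
        obtain ⟨i, hi⟩ := Subgroup.mem_zpowers_iff.mp
          ((Subgroup.mem_normalizer_iff.mp (hHT hg) a).mp (Subgroup.mem_zpowers a))
        rcases Int.even_or_odd i with ⟨j, hj⟩ | ⟨j, hj⟩
        · exfalso
          have h7 : g * a * g⁻¹ = 1 := by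
            rw [← hi, hj, ← two_mul, zpow_mul, zpow_ofNat, ← hq2, ← hao, pow_orderOf_eq_one, one_zpow]
          rw [mul_inv_eq_one, mul_eq_left] at h7
          rw [h7, orderOf_one] at hao
          exact hx.ne_one hao.symm
        · refine mul_inv_eq_iff_eq_mul.mp ?_
          rw [← hi, hj, zpow_add, zpow_mul, zpow_ofNat, ← hq2, ← hao, pow_orderOf_eq_one, one_zpow,
            one_mul, zpow_one]
      obtain ⟨b, hb, w, hw, hbo, hwo, hbw⟩ := h.exists_commuting
      exact h.quad.triple x hq r hr s hs h4 h6 h5 a b w hao hbo hwo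
        (hcent b (h.KH hb)).symm (hcent w (h.KH hw)).symm hbw
    · exact h.no_noncyclic (hTO.trans hOH) hHT hTe hcy
  · obtain ⟨E, hEO, hEnc, hEexp, hEn, hEc⟩ := exists_char_exponent hq2 hOp hnc
    have hHE : H ≤ Subgroup.normalizer (E : Set G) := hHO.trans hEn
    by_cases hEab : IsMulCommutative E
    · exact h.no_noncyclic (hEO.trans hOH) hHE hEexp hEnc
    set Z := E ⊓ Subgroup.centralizer (E : Set G) with hZ
    have hHZ : H ≤ Subgroup.normalizer (Z : Set G) :=
      Coprime.le_normalizer_inf_of_le hHE (fun g hg => mem_normalizer_centralizer (hHE hg))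
    haveI : IsMulCommutative Z :=
      ⟨⟨fun a b => Subtype.ext ((Subgroup.mem_inf.mp b.2).2 a (Subgroup.mem_inf.mp a.2).1)⟩⟩
    have hder : ∀ e ∈ E, ∀ c ∈ E, ⁅e, c⁆ ∈ Z := fun e he c hc => Subgroup.mem_inf.mpr ⟨by
        rw [commutatorElement_def]
        exact mul_mem (mul_mem (mul_mem he hc) (inv_mem he)) (inv_mem hc),
      fun k hk => ((hEc e he c (hEO hc) k (hEO hk)).eq).symm⟩
    by_cases hZc : IsCyclic Z
    · have hZne : Z ≠ ⊥ := fun hh => hEab ⟨⟨fun a b => Subtype.ext
        (commutatorElement_eq_one_iff_commute.mp (Subgroup.mem_bot.mp (hh ▸ hder a a.2 b b.2))).eq⟩⟩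
      obtain ⟨a, hao, hZa⟩ := eq_zpowers_of_cyclic (x := q) hZne fun z hz => hEexp z hz.1
      have haZ : a ∈ Z := hZa ▸ Subgroup.mem_zpowers a
      have haE : ∀ x ∈ E, Commute x a := fun x hx => commute_of_mem_centralizer haZ.2 hx
      have hHa : H ≤ Subgroup.normalizer (Subgroup.zpowers a : Set G) := hZa ▸ hHZ
      have hcen : ∀ x ∈ E, ∀ y ∈ E, ⁅x, y⁆ ∈ Subgroup.zpowers a := fun x hx y hy => hZa ▸ hder x hx y hy
      have hZm : ∀ x ∈ E, (∀ y ∈ E, Commute y x) → x ∈ Subgroup.zpowers a := fun x hx hall =>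
        hZa ▸ Subgroup.mem_inf.mpr ⟨hx, fun y hy => hall y hy⟩
      have hne : ¬ E ≤ Subgroup.zpowers a := fun hle => hEab (isMulCommutative_of_le hle)
      rcases h.kern_or (hOH (hEO haZ.1)) hao hHa with hk | hk
      · exact h.no_special (hEO.trans hOH) hHE hEexp haZ.1 hao hHa haE hcen hZm hne hk
      · exact h.swap.no_special (hEO.trans hOH) hHE hEexp haZ.1 hao hHa haE hcen hZm hne hk
    · exact h.no_noncyclic (inf_le_left.trans (hEO.trans hOH)) hHZ (fun z hz => hEexp z hz.1) hZc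

/-- `r`-cores lie in `K`. -/
theorem core_le (h : One σ p q r s N H K) : opOf r H ≤ K := by
  obtain ⟨hp, hq, hr, hs⟩ := h.mem
  haveI : Fact r.Prime := ⟨h.quad.prime r hr⟩
  obtain ⟨R, -, hRK, hR⟩ := exists_full (Y := (⊥ : Subgroup G)) h.idxr bot_le IsPGroup.of_bot
  have hsup : IsPGroup r ↥(opOf r H ⊔ R) :=
    (OddLocal.isPGroup_opOf (h.quad.prime r hr) H).to_sup_of_normal_left' hR.1
      ((hRK.trans h.KH).trans (OddLocal.le_normalizer_piCoreOf _ H))
  exact (le_sup_left.trans (Sylow.is_maximal' (hR.1.toSylow hR.2) hsup le_sup_right).le).trans hRK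

/-- Only the `q`-core. -/
theorem one_core (h : One σ p q r s N H K) (hcyc : ∀ x : ℕ, x.Prime → IsCyclic (opOf x H))
    (hbot : ∀ x : ℕ, x.Prime → x ≠ q → opOf x H = ⊥) {a : G} (ha : a ∈ opOf q H) (hao : orderOf a = q) :
    False := by
  haveI := h.solv
  obtain ⟨hp, hq, hr, hs⟩ := h.mem
  obtain ⟨h1, h2, h3, h4, h5, h6⟩ := h.dis
  haveI : Fact r.Prime := ⟨h.quad.prime r hr⟩
  haveI := hcyc q (h.quad.prime q hq)
  have hHa : H ≤ Subgroup.normalizer (Subgroup.zpowers a : Set G) :=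
    line_of_cyclic (OddLocal.le_normalizer_piCoreOf _ H) ha
  obtain ⟨P, -, hPK, hP⟩ := exists_full (Y := (⊥ : Subgroup G)) h.idxr bot_le IsPGroup.of_bot
  obtain ⟨x, hx, y, hy, hxo, hyo, hxy, hne⟩ := h.quad.exists_indep hr hP
  haveI : IsMulCommutative (Subgroup.zpowers a) := inferInstance
  obtain ⟨e, he, heo, hef⟩ := exists_fixed_of_pair hxo hyo hxy hne (U := Subgroup.zpowers a) (fun e => by
      rw [Subgroup.zpowers_eq_bot] at e
      rw [e, orderOf_one] at hao
      exact (h.quad.prime q hq).ne_one hao.symm)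
    (hHa (h.KH (hPK hx))) (hHa (h.KH (hPK hy)))
  haveI : Fact q.Prime := ⟨h.quad.prime q hq⟩
  obtain ⟨a', ha', ha'1, ha'e⟩ := exists_mem_fx hef
  have hea : Commute e a := commute_of_generator hao ha'1 ha' ha'e.symm
  have heH : e ∈ H := (Subgroup.closure_le _).mpr (by
    rintro z (rfl | rfl)
    · exact h.KH (hPK hx)
    · exact h.KH (hPK hy)) he
  have hmem := mem_core_of_cyclic (solvable_of_solvable_injective H.subtype_injective) hcyc
    (h.quad.prime r hr) heH heo fun z hz hzr c hc hco => by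
      rcases eq_or_ne z q with rfl | hzq
      · obtain ⟨j, rfl⟩ := Subgroup.mem_zpowers_iff.mp
          (show c ∈ Subgroup.zpowers a by
            rw [← Spectrum.eq_of_card_eq_cyclic_aux (W := opOf z H) (Subgroup.zpowers_le.mpr hc)
              (Subgroup.zpowers_le.mpr ha) (by rw [Nat.card_zpowers, Nat.card_zpowers, hco, hao])]
            exact Subgroup.mem_zpowers c)
        exact hea.zpow_right j
      · rw [hbot z hz hzq, Subgroup.mem_bot] at hc
        rw [hc, orderOf_one] at hco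
        exact absurd hco.symm hz.ne_one
  rw [hbot r (h.quad.prime r hr) h4.symm, Subgroup.mem_bot] at hmem
  rw [hmem, orderOf_one] at heo
  exact (h.quad.prime r hr).ne_one heo.symm

/-- The `q`- and `r`-cores and no `s`-core. -/
theorem two_cores (h : One σ p q r s N H K) (hcyc : ∀ x : ℕ, x.Prime → IsCyclic (opOf x H))
    (hbot : ∀ x : ℕ, x.Prime → x ≠ q → x ≠ r → opOf x H = ⊥) {a : G} (ha : a ∈ opOf q H) (hao : orderOf a = q)
    {t : G} (ht : t ∈ opOf r H) (hto : orderOf t = r) : False := by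
  haveI := h.solv
  obtain ⟨hp, hq, hr, hs⟩ := h.mem
  obtain ⟨h1, h2, h3, h4, h5, h6⟩ := h.dis
  have hqp := h.quad.prime q hq
  have hrp := h.quad.prime r hr
  have hsp := h.quad.prime s hs
  haveI : Fact q.Prime := ⟨hqp⟩
  haveI : Fact r.Prime := ⟨hrp⟩
  haveI : Fact s.Prime := ⟨hsp⟩
  have hHs : Group.IsSolvable H := solvable_of_solvable_injective H.subtype_injective
  haveI := hcyc q hqp
  haveI := hcyc r hrp
  have haH : a ∈ H := OddLocal.piCoreOf_le _ H ha
  have htK : t ∈ K := h.core_le ht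
  have hHa : H ≤ Subgroup.normalizer (Subgroup.zpowers a : Set G) :=
    line_of_cyclic (OddLocal.le_normalizer_piCoreOf _ H) ha
  have hHt : H ≤ Subgroup.normalizer (Subgroup.zpowers t : Set G) :=
    line_of_cyclic (OddLocal.le_normalizer_piCoreOf _ H) ht
  have hta : Commute t a := (OddLocal.opOf_commute h4.symm H ht a ha).symm
  have hft : fx N t = ⊥ := Two.fx_of_fixed_line (h.irr _ (Subgroup.zpowers_le.mpr (h.KH htK)) hHt fun e => by
    rw [Subgroup.zpowers_eq_bot] at e
    rw [e, orderOf_one] at hto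
    exact hrp.ne_one hto.symm)
  have hk : Kern r K a := (h.kern_or haH hao hHa).resolve_right fun hk =>
    h.swap.fix_outer hao hk htK hto hta hft
  -- elements of order `r` centralizing `a`
  have hd : ∀ d ∈ H, orderOf d = r → Commute d a → d ∈ Subgroup.zpowers t := by
    intro d hd hdo hda
    have hmem := mem_core_of_cyclic hHs hcyc hrp hd hdo fun z hz hzr c hc hco => by
      rcases eq_or_ne z q with rfl | hzq
      · obtain ⟨j, rfl⟩ := Subgroup.mem_zpowers_iff.mp
          (show c ∈ Subgroup.zpowers a by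
            rw [← Spectrum.eq_of_card_eq_cyclic_aux (W := opOf z H) (Subgroup.zpowers_le.mpr hc)
              (Subgroup.zpowers_le.mpr ha) (by rw [Nat.card_zpowers, Nat.card_zpowers, hco, hao])]
            exact Subgroup.mem_zpowers c)
        exact hda.zpow_right j
      · rw [hbot z hz hzq hzr, Subgroup.mem_bot] at hc
        rw [hc, orderOf_one] at hco
        exact absurd hco.symm hz.ne_one
    rw [← Spectrum.eq_of_card_eq_cyclic_aux (W := opOf r H) (Subgroup.zpowers_le.mpr hmem)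
      (Subgroup.zpowers_le.mpr ht) (by rw [Nat.card_zpowers, Nat.card_zpowers, hdo, hto])]
    exact Subgroup.mem_zpowers d
  -- an element of order `s` centralizing `a` moves `t`
  obtain ⟨P, -, hPK, hP⟩ := exists_full (Y := (⊥ : Subgroup G)) h.idxs bot_le IsPGroup.of_bot
  obtain ⟨x, hx, y, hy, hxo, hyo, hxy, hxyne⟩ := h.quad.exists_indep hs hP
  haveI : IsMulCommutative (Subgroup.zpowers a) := inferInstance
  obtain ⟨u, huV, huo, huf⟩ := exists_fixed_of_pair hxo hyo hxy hxyne (U := Subgroup.zpowers a) (fun e => by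
      rw [Subgroup.zpowers_eq_bot] at e
      rw [e, orderOf_one] at hao
      exact hqp.ne_one hao.symm)
    (hHa (h.KH (hPK hx))) (hHa (h.KH (hPK hy)))
  have huK : u ∈ K := (Subgroup.closure_le _).mpr (by
    rintro z (rfl | rfl)
    · exact hPK hx
    · exact hPK hy) huV
  obtain ⟨a', ha', ha'1, ha'u⟩ := exists_mem_fx huf
  have hua : Commute u a := commute_of_generator hao ha'1 ha' ha'u.symm
  have hut : ¬ Commute u t := fun hc =>
    h.quad.triple q hq r hr s hs h4 h6 h5 a t u hao hto huo hta.symm hua.symm hc.symm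
  -- `b` moves `a`
  obtain ⟨R, htR, hRK, hR⟩ := exists_full h.idxr (Subgroup.zpowers_le.mpr htK) (isPGroup_zpowers hto)
  obtain ⟨b, hb, hbo, hbt⟩ := h.quad.exists_pair_of_central hr hR hto
  have hbK : b ∈ K := hRK hb
  have hba : ¬ Commute b a := fun hc => hbt (hd b (h.KH hbK) hbo hc)
  -- the `r`-subgroup over the core
  set O := opOf r H with hO
  have hOp : IsPGroup r O := OddLocal.isPGroup_opOf hrp H
  have hHO : H ≤ Subgroup.normalizer (O : Set G) := OddLocal.le_normalizer_piCoreOf _ H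
  set B := O ⊔ Subgroup.zpowers b with hB
  have hBp : IsPGroup r B :=
    hOp.to_sup_of_normal_left' (isPGroup_zpowers hbo) (Subgroup.zpowers_le.mpr (hHO (h.KH hbK)))
  have hBK : B ≤ K := sup_le h.core_le (Subgroup.zpowers_le.mpr hbK)
  have hFK : ∀ f ∈ Cfsg.fittingOf H, f ∈ K → f ∈ O := by
    intro f hf hfK
    have hprim : ∀ z : ℕ, z.Prime → z ∣ orderOf f → z = r := by
      intro z hz hzd
      rcases h.primes z hz (hzd.trans (Subgroup.orderOf_dvd_natCard K hfK)) with rfl | rfl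
      · rfl
      · exfalso
        exact (OddLocal.opOf_ne_bot_iff hz H).mpr
          (hzd.trans (Subgroup.orderOf_dvd_natCard _ hf)) (hbot z hz h5.symm h6.symm)
    obtain ⟨n, hn⟩ : ∃ n, orderOf f = r ^ n := ⟨_,
      Nat.eq_prime_pow_of_unique_prime_dvd (orderOf_pos f).ne' fun {d} hdp hdd => hprim d hdp hdd⟩
    exact OddLocal.mem_opOf_of_mem_fittingOf hrp hf (k := n) (hn ▸ pow_orderOf_eq_one f)
  have hcomm : ∀ {g g' : G}, g ∈ K → g' ∈ K → ⁅g, g'⁆ ∈ O := fun {g g'} hg hg' =>
    hFK _ (commutator_mem_fitting hHs hcyc (h.KH hg) (h.KH hg')) (by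
      rw [commutatorElement_def]
      exact mul_mem (mul_mem (mul_mem hg hg') (inv_mem hg)) (inv_mem hg'))
  have huB : Subgroup.zpowers u ≤ Subgroup.normalizer (B : Set G) := by
    refine Subgroup.zpowers_le.mpr (PrimaryParts.mem_normalizer_of_conj_mem fun w hw => ?_)
    rw [show u * w * u⁻¹ = ⁅u, w⁆ * w by rw [commutatorElement_def]; group]
    exact mul_mem (Subgroup.mem_sup_left (hcomm huK (hBK hw))) hw
  obtain ⟨k, hk'⟩ := IsPGroup.iff_card.mp hBp
  obtain ⟨c, hc, hbc⟩ := Coprime.exists_centralizer_mem_coset huB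
    (by rw [Nat.card_zpowers, huo, hk']; exact ((Nat.coprime_primes hsp hrp).mpr h6.symm).pow_right k)
    (Or.inl (Coprime.isSolvable_of_isMulCommutative _)) (N := O) le_sup_left
    (((Subgroup.zpowers_le.mpr huK).trans h.KH).trans hHO) (Subgroup.mem_sup_right (Subgroup.mem_zpowers b))
    (fun g hg => by
      rw [show b⁻¹ * (g * b * g⁻¹) = ⁅b⁻¹, g⁆ by rw [commutatorElement_def]; group]
      exact hcomm (inv_mem hbK) (Subgroup.zpowers_le.mpr huK hg))
  obtain ⟨hcB, hcu⟩ := Subgroup.mem_inf.mp hc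
  have hcu' : Commute c u := (commute_of_mem_centralizer hcu (Subgroup.mem_zpowers u)).symm
  have hc1 : c ≠ 1 := fun e => hba (by
    rw [e, mul_one] at hbc
    exact (OddLocal.opOf_commute h4.symm H ((Subgroup.inv_mem_iff _).mp hbc) a ha).symm)
  obtain ⟨m, hm⟩ := (IsPGroup.iff_orderOf.mp hBp) ⟨c, hcB⟩
  rw [← Subgroup.orderOf_coe, show ((⟨c, hcB⟩ : B) : G) = c from rfl] at hm
  have hm0 : m ≠ 0 := fun h0 => hc1 (orderOf_eq_one_iff.mp (by rw [hm, h0, pow_zero]))
  set c₀ := c ^ (orderOf c / r) with hc₀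
  have hc₀o : orderOf c₀ = r := exists_prime_power (hm ▸ dvd_pow_self r hm0)
  have hc₀K : c₀ ∈ K := K.pow_mem (hBK hcB) _
  have hc₀u : Commute c₀ u := hcu'.pow_left _
  by_cases hc₀a : Commute c₀ a
  · obtain ⟨j, hj⟩ := Subgroup.mem_zpowers_iff.mp
      (mem_zpowers_swap hc₀o hto (hd c₀ (h.KH hc₀K) hc₀o hc₀a))
    exact hut (hj ▸ hc₀u.symm.zpow_right j)
  · exact h.no_commute haH hao hHa hk hc₀K hc₀o hc₀a huK huo hc₀u

end One

end CfsgLib.FourPrimes
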