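import Mathlib
import Cfsg.Agent.Lib.BG.PiHall
import Cfsg.Agent.Lib.FourPrimes.Cyclic

/-!
A solvable group has no four primes, any two joined and no three jointly joined.
-/

set_option autoImplicit false
set_option linter.style.haveILetI false
set_option linter.unusedSectionVars false

open scoped commutatorElement

namespace CfsgLib.FourPrimes

open CfsgLib.OddLocal (opOf)

universe u

variable {G : Type u} [Group G] [Finite G] {σ : Finset ℕ}

theorem pair_of_order {a b : ℕ} (ha : a ≠ 0) (hb : b ≠ 0) {g : G} (hg : orderOf g = a * b) :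
    orderOf (g ^ b) = a ∧ orderOf (g ^ a) = b ∧ Commute (g ^ b) (g ^ a) :=
  ⟨by rw [orderOf_pow_of_dvd hb (hg ▸ dvd_mul_left b a), hg, Nat.mul_div_cancel _ (Nat.pos_of_ne_zero hb)],
    by rw [orderOf_pow_of_dvd ha (hg ▸ dvd_mul_right a b), hg,
      Nat.mul_div_cancel_left _ (Nat.pos_of_ne_zero ha)],
    (Commute.refl g).pow_pow b a⟩

theorem order_of_pair {a b : ℕ} (ha : a.Prime) (hb : b.Prime) (hab : a ≠ b) {x y : G}
    (hx : orderOf x = a) (hy : orderOf y = b) (h : Commute x y) : orderOf (x * y) = a * b := by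
  rw [h.orderOf_mul_eq_mul_orderOf_of_coprime
    (by rw [hx, hy]; exact (Nat.coprime_primes ha hb).mpr hab), hx, hy]

theorem Quad.no_order (hQ : Quad G σ) {a b c : ℕ} (ha : a ∈ σ) (hb : b ∈ σ) (hc : c ∈ σ)
    (hab : a ≠ b) (hbc : b ≠ c) (hac : a ≠ c) {g : G} (hg : orderOf g = a * b * c) : False := by
  have ha0 := (hQ.prime a ha).ne_zero
  have hb0 := (hQ.prime b hb).ne_zero
  have hc0 := (hQ.prime c hc).ne_zero
  obtain ⟨h1, h2, -⟩ := pair_of_order (mul_ne_zero ha0 hb0) hc0 hg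
  obtain ⟨h3, h4, h5⟩ := pair_of_order ha0 hb0 h1
  exact hQ.triple a ha b hb c hc hab hbc hac _ _ _ h3 h4 h2 h5
    (((Commute.refl g).pow_pow c (a * b)).pow_left b) (((Commute.refl g).pow_pow c (a * b)).pow_left a)

theorem not_mem_of_isPGroup {p a : ℕ} (hp : p.Prime) (ha : a.Prime) (hne : a ≠ p) {N : Subgroup G}
    (hN : IsPGroup p N) {x : G} (hx : orderOf x = a) : x ∉ N := by
  intro hxN
  haveI := Fact.mk hp
  obtain ⟨k, hk⟩ := (IsPGroup.iff_orderOf.mp hN) ⟨x, hxN⟩
  rw [← Subgroup.orderOf_coe, show ((⟨x, hxN⟩ : N) : G) = x from rfl, hx] at hk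
  exact hne ((Nat.prime_dvd_prime_iff_eq ha hp).mp (ha.dvd_of_dvd_pow (n := k) (by rw [← hk])))

theorem Quad.quotient (hQ : Quad G σ) {p : ℕ} (hp : p.Prime) (hpσ : p ∉ σ) {N : Subgroup G} [N.Normal]
    (hN : IsPGroup p N) : Quad (G ⧸ N) σ := by
  refine ⟨hQ.four, hQ.prime, fun a ha b hb hab => ?_, fun a ha b hb c hc hab hbc hac x y z hx hy hz hxy hxz hyz => ?_⟩
  · obtain ⟨x, y, hx, hy, hxy⟩ := hQ.pair a ha b hb hab
    have key : ∀ {w : G} {e : ℕ}, e ∈ σ → orderOf w = e → orderOf (QuotientGroup.mk' N w) = e := by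
      intro w e he hw
      haveI : Fact e.Prime := ⟨hQ.prime e he⟩
      refine orderOf_eq_prime (by rw [← map_pow, ← hw, pow_orderOf_eq_one, map_one]) fun h1 => ?_
      exact not_mem_of_isPGroup hp (hQ.prime e he) (fun h2 => hpσ (h2 ▸ he)) hN hw
        ((QuotientGroup.eq_one_iff w).mp h1)
    exact ⟨_, _, key ha hx, key hb hy, hxy.map (QuotientGroup.mk' N)⟩
  · obtain ⟨g, hg⟩ := QuotientGroup.mk'_surjective N (x * y * z)
    have hxy' := order_of_pair (hQ.prime a ha) (hQ.prime b hb) hab hx hy hxy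
    have ho : orderOf (x * y * z) = a * b * c := by
      rw [(hxz.mul_left hyz).orderOf_mul_eq_mul_orderOf_of_coprime (by
        rw [hxy', hz]
        exact ((Nat.coprime_primes (hQ.prime a ha) (hQ.prime c hc)).mpr hac).mul_left
          ((Nat.coprime_primes (hQ.prime b hb) (hQ.prime c hc)).mpr hbc)), hxy', hz]
    have hd : a * b * c ∣ orderOf g := by
      rw [← ho, ← hg]; exact orderOf_map_dvd _ g
    obtain ⟨d, hd'⟩ := hd
    have h0 := (orderOf_pos g).ne'
    rw [hd', mul_ne_zero_iff] at h0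
    exact hQ.no_order ha hb hc hab hbc hac (g := g ^ d) (by
      rw [orderOf_pow_of_dvd h0.2 (hd' ▸ dvd_mul_left d _), hd', Nat.mul_div_cancel _ (Nat.pos_of_ne_zero h0.2)])

theorem Quad.subgroup [Group.IsSolvable G] (hQ : Quad G σ) {p : ℕ} (hp : p ∈ σ) {N : Subgroup G} [N.Normal]
    [IsMulCommutative N] (hexp : ∀ n ∈ N, n ^ p = 1) (hne : N ≠ ⊥) {H : Subgroup G}
    (hH : Cfsg.IsPiHall {z | z ∈ σ ∧ z ≠ p} H) : Quad ↥(N ⊔ H) σ := by
  haveI : Fact p.Prime := ⟨hQ.prime p hp⟩
  refine ⟨hQ.four, hQ.prime, ?_, fun a ha b hb c hc hab hbc hac x y z hx hy hz hxy hxz hyz => ?_⟩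
  · have main : ∀ a ∈ σ, a ≠ p → ∀ b ∈ σ, b ≠ a → ∃ x y : ↥(N ⊔ H),
        orderOf x = a ∧ orderOf y = b ∧ Commute x y := by
      intro a ha hap b hb hba
      suffices ∃ x ∈ N ⊔ H, ∃ y ∈ N ⊔ H, orderOf x = a ∧ orderOf y = b ∧ Commute x y by
        obtain ⟨x, hx, y, hy, h1, h2, h3⟩ := this
        exact ⟨⟨x, hx⟩, ⟨y, hy⟩, by rw [← Subgroup.orderOf_coe]; exact h1,
          by rw [← Subgroup.orderOf_coe]; exact h2, Subtype.ext h3.eq⟩
      by_cases hbp : b = p
      · subst hbp
        haveI : Fact a.Prime := ⟨hQ.prime a ha⟩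
        obtain ⟨P, -, hPH, hP⟩ := exists_full (Y := (⊥ : Subgroup G))
          (hH.2 a (hQ.prime a ha) ⟨ha, hap⟩) bot_le IsPGroup.of_bot
        obtain ⟨x, hx, y, hy, hxo, hyo, hxy, hxyne⟩ := hQ.exists_indep ha hP
        have hNn : ∀ g : G, g ∈ Subgroup.normalizer (N : Set G) := fun g =>
          (Subgroup.normalizer_eq_top_iff.mpr inferInstance).ge (Subgroup.mem_top g)
        obtain ⟨e, he, heo, hef⟩ := exists_fixed_of_pair hxo hyo hxy hxyne hne (hNn x) (hNn y)
        obtain ⟨n, hn, hn1, hne'⟩ := exists_mem_fx hef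
        exact ⟨e, Subgroup.mem_sup_right ((Subgroup.closure_le _).mpr (by
            rintro w (rfl | rfl)
            · exact hPH hx
            · exact hPH hy) he), n, Subgroup.mem_sup_left hn, heo,
          orderOf_eq_of_exponent hexp hn hn1, hne'.symm⟩
      · obtain ⟨x, y, hx, hy, hxy⟩ := hQ.pair a ha b hb hba.symm
        have ho := order_of_pair (hQ.prime a ha) (hQ.prime b hb) hba.symm hx hy hxy
        obtain ⟨g, hg⟩ := BG.exists_conj_le_piHall hH (K := Subgroup.zpowers (x * y)) fun z hz hzd => by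
          rw [Nat.card_zpowers, ho] at hzd
          rcases hz.dvd_mul.mp hzd with h | h
          · rw [(Nat.prime_dvd_prime_iff_eq hz (hQ.prime a ha)).mp h]; exact ⟨ha, hap⟩
          · rw [(Nat.prime_dvd_prime_iff_eq hz (hQ.prime b hb)).mp h]; exact ⟨hb, hbp⟩
        have hmem := hg (Subgroup.mem_zpowers (x * y))
        rw [Coprime.mem_conj_smul_iff] at hmem
        obtain ⟨h1, h2, h3⟩ := pair_of_order (hQ.prime a ha).ne_zero (hQ.prime b hb).ne_zero
          (g := g⁻¹ * (x * y) * g) (by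
            have := orderOf_conj g⁻¹ (x * y)
            rw [inv_inv] at this
            rw [this, ho])
        exact ⟨_, Subgroup.mem_sup_right (pow_mem hmem b), _, Subgroup.mem_sup_right (pow_mem hmem a), h1, h2, h3⟩
    intro a ha b hb hab
    by_cases hap : a = p
    · obtain ⟨y, x, hy, hx, hyx⟩ := main b hb (hap ▸ hab.symm) a ha hab
      exact ⟨x, y, hx, hy, hyx.symm⟩
    · exact main a ha hap b hb hab.symm
  · exact hQ.triple a ha b hb c hc hab hbc hac x y z (by rw [Subgroup.orderOf_coe, hx])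
      (by rw [Subgroup.orderOf_coe, hy]) (by rw [Subgroup.orderOf_coe, hz])
      (hxy.map (N ⊔ H).subtype) (hxz.map (N ⊔ H).subtype) (hyz.map (N ⊔ H).subtype)

/-- No smaller group has four such primes. -/
def NoSmaller (G : Type u) [Group G] (σ : Finset ℕ) : Prop :=
  ∀ (L : Type u) [Group L] [Finite L] [Group.IsSolvable L], Nat.card L < Nat.card G → ¬ Quad L σ

/-- In a smallest example a normal elementary subgroup is a Sylow subgroup. -/
theorem split [Group.IsSolvable G] (IH : NoSmaller G σ) (hQ : Quad G σ) {p : ℕ} (hp : p.Prime)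
    {N : Subgroup G} [N.Normal] [IsMulCommutative N] (hexp : ∀ n ∈ N, n ^ p = 1) (hne : N ≠ ⊥) :
    p ∈ σ ∧ ∃ H : Subgroup G, Cfsg.IsPiHall {z | z ∈ σ ∧ z ≠ p} H ∧ N ⊔ H = ⊤ ∧ ¬ p ∣ N.index ∧
      ∀ z : ℕ, z.Prime → z ∣ Nat.card G → z ∈ σ := by
  haveI := Fact.mk hp
  have hNp : IsPGroup p N := fun e =>
    ⟨1, Subtype.ext (by rw [pow_one, Subgroup.coe_pow, hexp e e.2, Subgroup.coe_one])⟩
  have hpσ : p ∈ σ := by
    by_contra h
    haveI : Group.IsSolvable (G ⧸ N) :=
      Group.isSolvable_of_surjective (QuotientGroup.mk'_surjective N)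
    refine IH (G ⧸ N) ?_ (hQ.quotient hp h hNp)
    rw [Subgroup.card_eq_card_quotient_mul_card_subgroup N]
    exact lt_mul_of_one_lt_right Nat.card_pos (N.one_lt_card_iff_ne_bot.mpr hne)
  obtain ⟨H, hH⟩ := BG.exists_piHall (G := G) {z | z ∈ σ ∧ z ≠ p}
  have htop : N ⊔ H = ⊤ := by
    by_contra h
    haveI : Group.IsSolvable ↥(N ⊔ H) := solvable_of_solvable_injective (N ⊔ H).subtype_injective
    exact IH ↥(N ⊔ H) (lt_of_le_of_ne (Nat.le_of_dvd Nat.card_pos (Subgroup.card_subgroup_dvd_card _))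
      fun e => h (Subgroup.eq_top_of_card_eq _ e)) (hQ.subgroup hpσ hexp hne hH)
  have hidx : N.index ∣ Nat.card H := by
    rw [← Subgroup.relIndex_top_right, ← htop, sup_comm, Subgroup.relIndex_sup_right]
    exact Subgroup.relIndex_dvd_card N H
  refine ⟨hpσ, H, hH, htop, fun h => (hH.1 p hp (h.trans hidx)).2 rfl, fun z hz hd => ?_⟩
  rw [← N.card_mul_index] at hd
  rcases hz.dvd_mul.mp hd with h | h
  · obtain ⟨k, hk⟩ := IsPGroup.iff_card.mp hNp
    rw [(Nat.prime_dvd_prime_iff_eq hz hp).mp (hz.dvd_of_dvd_pow (hk ▸ h))]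
    exact hpσ
  · exact (hH.1 z hz (h.trans hidx)).1

theorem exists_K {π ρ : Set ℕ} [Group.IsSolvable G] {H : Subgroup G} (hH : Cfsg.IsPiHall π H) (hρ : ρ ⊆ π) :
    ∃ K : Subgroup G, K ≤ H ∧ Cfsg.IsPiHall ρ K := by
  haveI : Group.IsSolvable H := solvable_of_solvable_injective H.subtype_injective
  obtain ⟨K, hK⟩ := BG.exists_piHall (G := H) ρ
  refine ⟨K.map H.subtype, Subgroup.map_subtype_le _, fun z hz hd => hK.1 z hz ?_, fun z hz hzρ hd => ?_⟩
  · rwa [Subgroup.card_map_of_injective H.subtype_injective] at hd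
  · rw [Subgroup.index_map_subtype] at hd
    rcases hz.dvd_mul.mp hd with h | h
    · exact hK.2 z hz hzρ h
    · exact hH.2 z hz (hρ hzρ) h

theorem step [Group.IsSolvable G] (IH : NoSmaller G σ) (hQ : Quad G σ) : False := by
  classical
  obtain ⟨a₀, ha₀⟩ := Finset.card_pos.mp (by rw [hQ.four]; norm_num : 0 < σ.card)
  haveI : Nontrivial G := by
    obtain ⟨b₀, hb₀, hne, -, -⟩ := hQ.other ha₀ ha₀ ha₀
    obtain ⟨x, -, hx, -, -⟩ := hQ.pair a₀ ha₀ b₀ hb₀ hne.symm
    exact ⟨⟨x, 1, fun e => (hQ.prime a₀ ha₀).ne_one (by rw [← hx, e, orderOf_one])⟩⟩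
  obtain ⟨N, p, -, hN, hNn, hNmin, hp, -, hNc, hNe⟩ := exists_minimal (K := (⊤ : Subgroup G))
    (M := (⊤ : Subgroup G)) Subgroup.le_normalizer top_ne_bot
  haveI := hNc
  haveI : N.Normal := Subgroup.normalizer_eq_top_iff.mp (top_le_iff.mp hNn)
  haveI := Fact.mk hp
  obtain ⟨hpσ, H, hH, hNH, hpidx, hσ⟩ := split IH hQ hp hNe hN
  have hNp : IsPGroup p N := fun e =>
    ⟨1, Subtype.ext (by rw [pow_one, Subgroup.coe_pow, hNe e e.2, Subgroup.coe_one])⟩
  have hcop : ∀ X : Subgroup G, X ≤ H → (Nat.card X).Coprime (Nat.card N) := by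
    intro X hX
    obtain ⟨k, hk⟩ := IsPGroup.iff_card.mp hNp
    rw [hk]
    refine Nat.Coprime.pow_right k ((hp.coprime_iff_not_dvd.mpr fun hd => ?_).symm)
    exact (hH.1 p hp (hd.trans (Subgroup.card_dvd_of_le hX))).2 rfl
  have hirr : ∀ (S T : Subgroup G), S ⊔ N = ⊤ → S ≤ Subgroup.normalizer (T : Set G) →
      ¬ T ≤ Subgroup.centralizer (N : Set G) → N ⊓ Subgroup.centralizer (T : Set G) = ⊥ := by
    intro S T hS hST hT
    by_contra hne
    refine hT ?_
    have hn : (⊤ : Subgroup G) ≤ Subgroup.normalizer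
        ((N ⊓ Subgroup.centralizer (T : Set G) : Subgroup G) : Set G) := by
      rw [← hS]
      refine sup_le (Coprime.le_normalizer_inf_of_le (le_top.trans hNn)
        (fun g hg => mem_normalizer_centralizer (hST hg))) fun g hg => ?_
      refine PrimaryParts.mem_normalizer_of_conj_mem fun w hw => ?_
      rw [(commute_of_mem hg hw.1).eq, mul_inv_cancel_right]
      exact hw
    have heq := hNmin _ inf_le_left hne hn
    intro t ht n hn'
    exact ((heq.ge hn').2 t ht).symm
  by_cases hfaith : H ⊓ Subgroup.centralizer (N : Set G) = ⊥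
  · -- faithful action
    have hcard : (σ.erase p).card = 3 := by
      rw [Finset.card_erase_of_mem hpσ, hQ.four]
    have hmk : ∀ q r s : ℕ, q ∈ σ.erase p → r ∈ σ.erase p → s ∈ σ.erase p → q ≠ r → q ≠ s → r ≠ s →
        ∃ K, One σ p q r s N H K := by
      intro q r s hq hr hs hqr hqs hrs
      obtain ⟨K, hKH, hK⟩ := exists_K hH (ρ := {r, s}) (by
        rintro z (rfl | rfl)
        · exact ⟨(Finset.mem_erase.mp hr).2, (Finset.mem_erase.mp hr).1⟩
        · exact ⟨(Finset.mem_erase.mp hs).2, (Finset.mem_erase.mp hs).1⟩)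
      have hset : ({q, r, s} : Finset ℕ) = σ.erase p :=
        Finset.eq_of_subset_of_card_le (by
          intro z hz
          simp only [Finset.mem_insert, Finset.mem_singleton] at hz
          rcases hz with rfl | rfl | rfl <;> assumption)
          (by rw [hcard, Finset.card_eq_three.mpr ⟨q, r, s, hqr, hqs, hrs, rfl⟩])
      obtain ⟨hqp, hqσ⟩ := Finset.mem_erase.mp hq
      obtain ⟨hrp, hrσ⟩ := Finset.mem_erase.mp hr
      obtain ⟨hsp, hsσ⟩ := Finset.mem_erase.mp hs
      refine ⟨K, ⟨hQ, inferInstance, ⟨hpσ, hqσ, hrσ, hsσ⟩, ⟨hqp.symm, hrp.symm, hsp.symm, hqr, hqs, hrs⟩,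
        hNc, hNe, hN, le_top.trans hNn, hfaith, ?_, hcop H le_rfl, hKH,
        hK.2 r (hQ.prime r hrσ) (Or.inl rfl), hK.2 s (hQ.prime s hsσ) (Or.inr rfl),
        fun z hz hd => hK.1 z hz hd, fun z hz hd => ?_⟩⟩
      · intro T hTH hHT hT
        refine hirr H T (by rw [sup_comm, hNH]) hHT fun hTc => hT ?_
        rw [eq_bot_iff, ← hfaith]
        exact le_inf hTH hTc
      · have h7 : z ∈ σ.erase p := Finset.mem_erase.mpr ⟨(hH.1 z hz hd).2, (hH.1 z hz hd).1⟩
        rw [← hset] at h7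
        simpa using h7
    have hmem : ∀ x : ℕ, x.Prime → opOf x H ≠ ⊥ → x ∈ σ.erase p := fun x hx hne => by
      have h7 := hH.1 x hx (((OddLocal.opOf_ne_bot_iff hx H).mp hne).trans
        (Subgroup.card_dvd_of_le (OddLocal.fittingOf_le H)))
      exact Finset.mem_erase.mpr ⟨h7.2, h7.1⟩
    obtain ⟨q, r, s, hqr, hqs, hrs, hset⟩ := Finset.card_eq_three.mp hcard
    have hm : ∀ z : ℕ, z ∈ σ.erase p ↔ z = q ∨ z = r ∨ z = s := fun z => by rw [hset]; simp
    have hq := (hm q).mpr (Or.inl rfl)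
    have hr := (hm r).mpr (Or.inr (Or.inl rfl))
    have hs := (hm s).mpr (Or.inr (Or.inr rfl))
    have hcyc : ∀ x : ℕ, x.Prime → IsCyclic (opOf x H) := by
      intro x hx
      by_cases hne : opOf x H = ⊥
      · rw [hne]; infer_instance
      rcases (hm x).mp (hmem x hx hne) with rfl | rfl | rfl
      · exact (hmk x r s hq hr hs hqr hqs hrs).choose_spec.core_cyclic
      · exact (hmk x q s hr hq hs hqr.symm hrs hqs).choose_spec.core_cyclic
      · exact (hmk x q r hs hq hr hqs.symm hrs.symm hqr).choose_spec.core_cyclic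
    have helt : ∀ x ∈ σ.erase p, opOf x H ≠ ⊥ → ∃ a ∈ opOf x H, orderOf a = x := by
      intro x hx hne
      have hxp := hQ.prime x (Finset.mem_erase.mp hx).2
      haveI := Fact.mk hxp
      obtain ⟨k, hk⟩ := IsPGroup.iff_card.mp (OddLocal.isPGroup_opOf hxp H)
      have hk0 : k ≠ 0 := fun h0 => hne (Subgroup.card_eq_one.mp (by rw [hk, h0, pow_zero]))
      obtain ⟨a, ha⟩ := exists_prime_orderOf_dvd_card' (G := opOf x H) x (hk ▸ dvd_pow_self x hk0)
      exact ⟨a, a.2, by rw [Subgroup.orderOf_coe, ha]⟩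
    -- two of the cores
    have htwo : ∀ a b c : ℕ, a ∈ σ.erase p → b ∈ σ.erase p → c ∈ σ.erase p → a ≠ b → a ≠ c → b ≠ c →
        opOf a H ≠ ⊥ → opOf b H ≠ ⊥ → opOf c H = ⊥ → False := by
      intro a b c ha hb hc hab hac hbc hA hB hC
      obtain ⟨K, hK⟩ := hmk a b c ha hb hc hab hac hbc
      obtain ⟨x, hx, hxo⟩ := helt a ha hA
      obtain ⟨y, hy, hyo⟩ := helt b hb hB
      refine hK.two_cores hcyc (fun z hz h1 h2 => ?_) hx hxo hy hyo
      by_contra hne
      rcases hK.primesH z hz (((OddLocal.opOf_ne_bot_iff hz H).mp hne).trans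
        (Subgroup.card_dvd_of_le (OddLocal.fittingOf_le H))) with rfl | rfl | rfl
      · exact h1 rfl
      · exact h2 rfl
      · exact hne hC
    have hone : ∀ a b c : ℕ, a ∈ σ.erase p → b ∈ σ.erase p → c ∈ σ.erase p → a ≠ b → a ≠ c → b ≠ c →
        opOf a H ≠ ⊥ → opOf b H = ⊥ → opOf c H = ⊥ → False := by
      intro a b c ha hb hc hab hac hbc hA hB hC
      obtain ⟨K, hK⟩ := hmk a b c ha hb hc hab hac hbc
      obtain ⟨x, hx, hxo⟩ := helt a ha hA
      refine hK.one_core hcyc (fun z hz h1 => ?_) hx hxo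
      by_contra hne
      rcases hK.primesH z hz (((OddLocal.opOf_ne_bot_iff hz H).mp hne).trans
        (Subgroup.card_dvd_of_le (OddLocal.fittingOf_le H))) with rfl | rfl | rfl
      · exact h1 rfl
      · exact hne hB
      · exact hne hC
    by_cases hA : opOf q H = ⊥ <;> by_cases hB : opOf r H = ⊥ <;> by_cases hC : opOf s H = ⊥
    · have hF : Cfsg.fittingOf H = ⊥ := le_bot_iff.mp (OddLocal.fittingOf_le_of fun x hx => by
        by_cases hne : opOf x H = ⊥
        · exact hne.le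
        · rcases (hm x).mp (hmem x hx hne) with rfl | rfl | rfl
          · exact hA.le
          · exact hB.le
          · exact hC.le)
      have hHs : Group.IsSolvable H := solvable_of_solvable_injective H.subtype_injective
      have hbot : H = ⊥ := le_bot_iff.mp fun x hx => hF.le
        (OddLocal.inf_centralizer_fittingOf_le hHs (Subgroup.mem_inf.mpr ⟨hx, fun f hf => by
          rw [SetLike.mem_coe, hF, Subgroup.mem_bot] at hf
          rw [hf, one_mul, mul_one]⟩))
      rw [hbot, sup_bot_eq] at hNH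
      obtain ⟨hqp, hqσ⟩ := Finset.mem_erase.mp hq
      obtain ⟨x, y, hx, -, -⟩ := hQ.pair q hqσ p hpσ hqp
      exact not_mem_of_isPGroup hp (hQ.prime q hqσ) hqp hNp hx (hNH ▸ Subgroup.mem_top x)
    · exact hone s q r hs hq hr hqs.symm hrs.symm hqr hC hA hB
    · exact hone r q s hr hq hs hqr.symm hrs hqs hB hA hC
    · exact htwo r s q hr hs hq hrs hqr.symm hqs.symm hB hC hA
    · exact hone q r s hq hr hs hqr hqs hrs hA hB hC
    · exact htwo q s r hq hs hr hqs hqr hrs.symm hA hC hB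
    · exact htwo q r s hq hr hs hqr hqs hrs hA hB hC
    · obtain ⟨hqp, hqσ⟩ := Finset.mem_erase.mp hq
      obtain ⟨hrp, hrσ⟩ := Finset.mem_erase.mp hr
      obtain ⟨hsp, hsσ⟩ := Finset.mem_erase.mp hs
      obtain ⟨x, hx, hxo⟩ := helt q hq hA
      obtain ⟨y, hy, hyo⟩ := helt r hr hB
      obtain ⟨z, hz, hzo⟩ := helt s hs hC
      exact hQ.triple q hqσ r hrσ s hsσ hqr hrs hqs x y z hxo hyo hzo
        (isPGroup_commute_cores hqr hx hy) (isPGroup_commute_cores hqs hx hz)
        (isPGroup_commute_cores hrs hy hz)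
  · -- two normal Sylow subgroups
    have hCn : (⊤ : Subgroup G) ≤ Subgroup.normalizer
        ((H ⊓ Subgroup.centralizer (N : Set G) : Subgroup G) : Set G) := by
      rw [← hNH]
      refine sup_le (fun g hg => ?_) (Coprime.le_normalizer_inf_of_le Subgroup.le_normalizer
        fun g hg => mem_normalizer_centralizer ((le_top.trans hNn) hg))
      refine PrimaryParts.mem_normalizer_of_conj_mem fun w hw => ?_
      rw [(show Commute g w from hw.2 g hg).eq, mul_inv_cancel_right]
      exact hw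
    obtain ⟨M, q, hMC, hM, hMn, hMmin, hq, hqd, hMc, hMe⟩ := exists_minimal hCn hfaith
    haveI := hMc
    haveI : M.Normal := Subgroup.normalizer_eq_top_iff.mp (top_le_iff.mp hMn)
    obtain ⟨hqσ, H', -, -, hqidx, -⟩ := split IH hQ hq hMe hM
    have hqp : q ≠ p :=
      (hH.1 q hq (hqd.trans (Subgroup.card_dvd_of_le (hMC.trans inf_le_left)))).2
    obtain ⟨r, s, hrs, hrs'⟩ := Finset.card_eq_two.mp (show ((σ.erase p).erase q).card = 2 by
      rw [Finset.card_erase_of_mem (Finset.mem_erase.mpr ⟨hqp, hqσ⟩), Finset.card_erase_of_mem hpσ, hQ.four])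
    have hm : ∀ z : ℕ, (z ≠ q ∧ z ≠ p ∧ z ∈ σ) ↔ z = r ∨ z = s := fun z => by
      have : z ∈ (σ.erase p).erase q ↔ z ∈ ({r, s} : Finset ℕ) := by rw [hrs']
      simpa using this
    obtain ⟨hrq, hrp, hrσ⟩ := (hm r).mpr (Or.inl rfl)
    obtain ⟨hsq, hsp, hsσ⟩ := (hm s).mpr (Or.inr rfl)
    obtain ⟨K, hKH, hK⟩ := exists_K hH (ρ := {r, s}) (by
      rintro z (rfl | rfl)
      · exact ⟨hrσ, hrp⟩
      · exact ⟨hsσ, hsp⟩)
    have hgen : K ⊔ M ⊔ N = ⊤ := by
      rw [← Subgroup.index_eq_one]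
      by_contra h1
      obtain ⟨z, hz, hzd⟩ := Nat.exists_prime_and_dvd h1
      have hzσ := hσ z hz (hzd.trans (Subgroup.index_dvd_card _))
      by_cases hzp : z = p
      · exact hpidx (hzp ▸ hzd.trans (Subgroup.index_dvd_of_le le_sup_right))
      by_cases hzq : z = q
      · exact hqidx (hzq ▸ hzd.trans (Subgroup.index_dvd_of_le (le_sup_right.trans le_sup_left)))
      have hzK : z ∈ ({r, s} : Set ℕ) := (hm z).mp ⟨hzq, hzp, hzσ⟩
      exact hK.2 z hz hzK (hzd.trans (Subgroup.index_dvd_of_le (le_sup_left.trans le_sup_left)))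
    have hcomm : ∀ n ∈ N, ∀ m ∈ M, Commute n m := fun n hn m hm => (hMC hm).2 n hn
    have hMN : M ≤ Subgroup.centralizer (N : Set G) := hMC.trans inf_le_right
    have hcopM : (Nat.card K).Coprime (Nat.card M) := by
      haveI := Fact.mk hq
      obtain ⟨k, hk⟩ := IsPGroup.iff_card.mp (show IsPGroup q M from fun e =>
        ⟨1, Subtype.ext (by rw [pow_one, Subgroup.coe_pow, hMe e e.2, Subgroup.coe_one])⟩)
      rw [hk]
      refine Nat.Coprime.pow_right k ((hq.coprime_iff_not_dvd.mpr fun hd => ?_).symm)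
      rcases hK.1 q hq hd with h | h
      · exact hrq h.symm
      · exact hsq h.symm
    refine Two.false (σ := σ) (p := p) (q := q) (r := r) (s := s) (N := N) (M := M) (K := K)
      ⟨hQ, inferInstance, ⟨hpσ, hqσ, hrσ, hsσ⟩, ⟨hqp.symm, hrp.symm, hsp.symm, hrq.symm, hsq.symm, hrs⟩,
        hNc, hMc, hNe, hMe, hN, hM, hcomm, le_top.trans hNn, le_top.trans hMn, ?_, ?_, hcop K hKH, hcopM,
        hK.2 r (hQ.prime r hrσ) (Or.inl rfl), hK.2 s (hQ.prime s hsσ) (Or.inr rfl),
        fun z hz hd => hK.1 z hz hd⟩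
    · intro T hTK hKT hT
      by_contra hne
      refine hT ?_
      have hn : (⊤ : Subgroup G) ≤ Subgroup.normalizer
          ((N ⊓ Subgroup.centralizer (T : Set G) : Subgroup G) : Set G) := by
        rw [← hgen]
        refine sup_le (sup_le (Coprime.le_normalizer_inf_of_le (le_top.trans hNn)
          (fun g hg => mem_normalizer_centralizer (hKT hg))) fun g hg => ?_) fun g hg => ?_
        · refine PrimaryParts.mem_normalizer_of_conj_mem fun w hw => ?_
          rw [(hcomm w hw.1 g hg).symm.eq, mul_inv_cancel_right]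
          exact hw
        · refine PrimaryParts.mem_normalizer_of_conj_mem fun w hw => ?_
          rw [(commute_of_mem hg hw.1).eq, mul_inv_cancel_right]
          exact hw
      have heq := hNmin _ inf_le_left hne hn
      intro t ht n hn'
      exact ((heq.ge hn').2 t ht).symm
    · intro T hTK hKT hT
      by_contra hne
      refine hT ?_
      have hn : (⊤ : Subgroup G) ≤ Subgroup.normalizer
          ((M ⊓ Subgroup.centralizer (T : Set G) : Subgroup G) : Set G) := by
        rw [← hgen]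
        refine sup_le (sup_le (Coprime.le_normalizer_inf_of_le (le_top.trans hMn)
          (fun g hg => mem_normalizer_centralizer (hKT hg))) fun g hg => ?_) fun g hg => ?_
        · refine PrimaryParts.mem_normalizer_of_conj_mem fun w hw => ?_
          rw [(commute_of_mem hg hw.1).eq, mul_inv_cancel_right]
          exact hw
        · refine PrimaryParts.mem_normalizer_of_conj_mem fun w hw => ?_
          rw [(hcomm g hg w hw.1).eq, mul_inv_cancel_right]
          exact hw
      have heq := hMmin _ inf_le_left hne hn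
      intro t ht n hn'
      exact ((heq.ge hn').2 t ht).symm

theorem not_solvable (σ : Finset ℕ) : ∀ (n : ℕ) (G : Type u) [Group G] [Finite G] [Group.IsSolvable G],
    Nat.card G = n → ¬ Quad G σ := by
  intro n
  induction n using Nat.strong_induction_on with
  | _ n ih =>
    intro G _ _ _ hn hQ
    exact step (fun L _ _ _ hlt => ih _ (hn ▸ hlt) L rfl) hQ

end CfsgLib.FourPrimes
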